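import Groth.Agent.HilbGlueLib.Normal

/-!
# The cotangent space of a universal family
-/

set_option autoImplicit false
set_option linter.style.haveILetI false
set_option linter.unusedSectionVars false
set_option backward.isDefEq.respectTransparency false
set_option backward.isDefEq.respectTransparency.types false
set_option maxHeartbeats 1000000
universe u

open CategoryTheory CategoryTheory.Limits AlgebraicGeometry IsLocalRing

noncomputable section

namespace HilbGlueLib

section Hom

variable {k : Type u} [Field k] {R : Type u} [CommRing R] [IsLocalRing R] [Algebra k R] {res : R →ₐ[k] k}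

theorem res_eq_zero_iff (r : R) : res r = 0 ↔ r ∈ maximalIdeal R := by
  have hres : Function.Surjective res := fun c => ⟨algebraMap k R c, res.commutes c⟩
  rw [← IsLocalRing.eq_maximalIdeal (RingHom.ker_isMaximal_of_surjective (res : R →+* k) hres)]
  exact (RingHom.mem_ker (f := (res : R →+* k))).symm

theorem sub_mem_max (r : R) : r - algebraMap k R (res r) ∈ maximalIdeal R := by
  rw [← res_eq_zero_iff (res := res), map_sub, AlgHom.commutes, Algebra.algebraMap_self, RingHom.id_apply, sub_self]

/-- The linear part. -/
def lin (res : R →ₐ[k] k) : R →ₗ[k] (maximalIdeal R).Cotangent :=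
  ((maximalIdeal R).toCotangent.restrictScalars k).comp
    (LinearMap.codRestrict ((maximalIdeal R).restrictScalars k)
      (LinearMap.id - (Algebra.linearMap k R).comp res.toLinearMap) sub_mem_max)

theorem lin_mul (r s : R) : lin res (r * s) = res r • lin res s + res s • lin res r := by
  rw [← map_smul, ← map_smul, ← map_add]
  show (maximalIdeal R).toCotangent _ = (maximalIdeal R).toCotangent _
  rw [Ideal.toCotangent_eq]
  show (r * s - algebraMap k R (res (r * s))) - ((res r • s + res s • r) -
    algebraMap k R (res (res r • s + res s • r))) ∈ maximalIdeal R ^ 2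
  rw [map_mul, map_mul, map_add, map_smul, map_smul, smul_eq_mul, smul_eq_mul, map_add, map_mul, map_mul,
    Algebra.smul_def, Algebra.smul_def]
  have h : r * s - algebraMap k R (res r) * algebraMap k R (res s) -
      (algebraMap k R (res r) * s + algebraMap k R (res s) * r -
        (algebraMap k R (res r) * algebraMap k R (res s) + algebraMap k R (res s) * algebraMap k R (res r))) =
      (r - algebraMap k R (res r)) * (s - algebraMap k R (res s)) := by ring
  rw [h, sq]
  exact Ideal.mul_mem_mul (sub_mem_max r) (sub_mem_max s)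

theorem lin_algebraMap (c : k) : lin res (algebraMap k R c) = 0 := by
  show (maximalIdeal R).toCotangent _ = 0
  rw [Ideal.toCotangent_eq_zero]
  show algebraMap k R c - algebraMap k R (res (algebraMap k R c)) ∈ maximalIdeal R ^ 2
  rw [AlgHom.commutes, Algebra.algebraMap_self, RingHom.id_apply, sub_self]
  exact zero_mem _

theorem lin_coe (r : maximalIdeal R) : lin res (r : R) = (maximalIdeal R).toCotangent r := by
  show (maximalIdeal R).toCotangent _ = _
  congr 1
  refine Subtype.ext ?_
  show (r : R) - algebraMap k R (res r) = r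
  rw [(res_eq_zero_iff (res := res) _).2 r.2, map_zero, sub_zero]

variable {M : Type u} [AddCommGroup M] [Module k M] [Module kᵐᵒᵖ M] [IsCentralScalar k M]

/-- The point with values in `k ⊕ M` of a linear form on the cotangent space. -/
def pt (res : R →ₐ[k] k) (f : (maximalIdeal R).Cotangent →ₗ[k] M) : R →ₐ[k] TrivSqZeroExt k M where
  toFun r := (res r, f (lin res r))
  map_one' := TrivSqZeroExt.ext (map_one res) (by
    show f (lin res 1) = _
    rw [← map_one (algebraMap k R), lin_algebraMap, map_zero, TrivSqZeroExt.snd_one])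
  map_mul' r s := TrivSqZeroExt.ext (map_mul res r s) (by
    show f (lin res (r * s)) = res r • f (lin res s) + MulOpposite.op (res s) • f (lin res r)
    rw [lin_mul, map_add, map_smul, map_smul, op_smul_eq_smul])
  map_zero' := TrivSqZeroExt.ext (map_zero res) (by
    show f (lin res 0) = _
    rw [map_zero, map_zero, TrivSqZeroExt.snd_zero])
  map_add' r s := TrivSqZeroExt.ext (map_add res r s) (by
    show f (lin res (r + s)) = f (lin res r) + f (lin res s)
    rw [map_add, map_add])
  commutes' c := TrivSqZeroExt.ext (res.commutes c) (by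
    show f (lin res (algebraMap k R c)) = _
    rw [lin_algebraMap, map_zero, TrivSqZeroExt.algebraMap_eq_inl, TrivSqZeroExt.snd_inl])

/-- The `k[ε]`-point of a linear form. -/
def ptD (res : R →ₐ[k] k) (f : (maximalIdeal R).Cotangent →ₗ[k] k) :
    ArtFun.HomSet R res (ArtFun.Art.dual k k) :=
  ⟨pt res f, AlgHom.ext fun _ => rfl⟩

/-- The `k[ε₁, ε₂]`-point of two linear forms. -/
def ptD2 (res : R →ₐ[k] k) (f g : (maximalIdeal R).Cotangent →ₗ[k] k) :
    ArtFun.HomSet R res (ArtFun.Art.dual2 k k) :=
  ⟨pt res (f.prod g), AlgHom.ext fun _ => rfl⟩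

theorem ptD_bijective : Function.Bijective (ptD res) := by
  refine ⟨fun f g h => LinearMap.ext fun z => ?_, fun φ => ?_⟩
  · obtain ⟨r, rfl⟩ := Ideal.toCotangent_surjective _ z
    have := congrArg (fun φ : ArtFun.HomSet R res (ArtFun.Art.dual k k) =>
      TrivSqZeroExt.snd (R := k) (M := k) (φ.1 (r : R))) h
    change f (lin res (r : R)) = g (lin res (r : R)) at this
    rwa [lin_coe] at this
  · let δ : R →ₗ[k] k := (TrivSqZeroExt.sndHom k k).comp φ.1.toLinearMap
    have hfst : ∀ r, TrivSqZeroExt.fst (R := k) (M := k) (φ.1 r) = res r := fun r => AlgHom.congr_fun φ.2 r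
    have hδ : ∀ r s : R, δ (r * s) = res r * δ s + res s * δ r := fun r s => by
      show TrivSqZeroExt.snd (R := k) (M := k) (φ.1 (r * s)) = _
      rw [map_mul]
      refine (TrivSqZeroExt.snd_mul (R := k) (M := k) _ _).trans ?_
      rw [hfst, hfst, op_smul_eq_smul]
      rfl
    let g : (maximalIdeal R).restrictScalars k →ₗ[k] k := δ.comp (Submodule.subtype _)
    let q : (maximalIdeal R).restrictScalars k →ₗ[k] (maximalIdeal R).Cotangent :=
      (maximalIdeal R).toCotangent.restrictScalars k
    have hq : Function.Surjective q := (maximalIdeal R).toCotangent_surjective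
    have hker : LinearMap.ker q ≤ LinearMap.ker g := fun z hz => by
      rw [LinearMap.mem_ker] at hz ⊢
      have hz' : (z : R) ∈ maximalIdeal R ^ 2 := (Ideal.toCotangent_eq_zero _ z).1 hz
      rw [sq] at hz'
      show δ (z : R) = 0
      refine Submodule.mul_induction_on hz' (fun a ha b hb => ?_) fun a b ha hb => by rw [map_add, ha, hb, add_zero]
      rw [hδ, (res_eq_zero_iff a).2 ha, (res_eq_zero_iff b).2 hb, zero_mul, zero_mul, add_zero]
    let f : (maximalIdeal R).Cotangent →ₗ[k] k :=
      ((LinearMap.ker q).liftQ g hker).comp (q.quotKerEquivOfSurjective hq).symm.toLinearMap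
    have hf : ∀ z, f (q z) = g z := fun z => by
      show (LinearMap.ker q).liftQ g hker ((q.quotKerEquivOfSurjective hq).symm (q z)) = g z
      rw [show (q.quotKerEquivOfSurjective hq).symm (q z) = Submodule.Quotient.mk z from
        (LinearEquiv.symm_apply_eq _).2 rfl]
      rfl
    refine ⟨f, Subtype.ext (AlgHom.ext fun r => TrivSqZeroExt.ext (hfst r).symm ?_)⟩
    show f (lin res r) = δ r
    refine (hf ⟨_, sub_mem_max (res := res) r⟩).trans ?_
    show δ (r - algebraMap k R (res r)) = δ r
    have h1 : δ (algebraMap k R (res r)) = 0 := by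
      show TrivSqZeroExt.snd (R := k) (M := k) (φ.1 _) = 0
      rw [AlgHom.commutes]
      exact TrivSqZeroExt.snd_inl k _
    rw [map_sub, h1, sub_zero]

theorem ptD_smul (c : k) (f : (maximalIdeal R).Cotangent →ₗ[k] k) :
    ptD res (c • f) = ArtFun.HomSet.map (ArtFun.Art.scale c) (ptD res f) :=
  Subtype.ext (AlgHom.ext fun _ => TrivSqZeroExt.ext rfl rfl)

theorem ptD2_pr₁ (f g : (maximalIdeal R).Cotangent →ₗ[k] k) :
    ptD res f = ArtFun.HomSet.map ArtFun.Art.pr₁ (ptD2 res f g) :=
  Subtype.ext (AlgHom.ext fun _ => TrivSqZeroExt.ext rfl rfl)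

theorem ptD2_pr₂ (f g : (maximalIdeal R).Cotangent →ₗ[k] k) :
    ptD res g = ArtFun.HomSet.map ArtFun.Art.pr₂ (ptD2 res f g) :=
  Subtype.ext (AlgHom.ext fun _ => TrivSqZeroExt.ext rfl rfl)

theorem ptD2_plus (f g : (maximalIdeal R).Cotangent →ₗ[k] k) :
    ptD res (f + g) = ArtFun.HomSet.map ArtFun.Art.plus (ptD2 res f g) :=
  Subtype.ext (AlgHom.ext fun _ => TrivSqZeroExt.ext rfl rfl)

theorem finrank_residue (res : R →ₐ[k] k) :
    Module.finrank (ResidueField R) (CotangentSpace R) = Module.finrank k (maximalIdeal R).Cotangent := by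
  have h1 : Module.finrank k (ResidueField R) = 1 := by
    refine finrank_eq_one_iff'.2 ⟨1, one_ne_zero, fun z => ?_⟩
    obtain ⟨r, rfl⟩ := IsLocalRing.residue_surjective z
    refine ⟨res r, ?_⟩
    rw [Algebra.smul_def, mul_one, IsScalarTower.algebraMap_apply k R (ResidueField R), ResidueField.algebraMap_eq,
      eq_comm, ← sub_eq_zero, ← map_sub, residue_eq_zero_iff]
    exact sub_mem_max r
  haveI : IsScalarTower k (ResidueField R) (CotangentSpace R) := IsScalarTower.of_algebraMap_smul fun c z => by
    rw [IsScalarTower.algebraMap_apply k R (ResidueField R), algebraMap_smul, algebraMap_smul]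
  have h2 := Module.finrank_mul_finrank k (ResidueField R) (CotangentSpace R)
  rw [h1, one_mul] at h2
  exact h2

end Hom

variable {k : Type u} [Field k] {X : Scheme.{u}} [X.Over (Spec (CommRingCat.of k))] {I₀ : X.IdealSheafData}

/-- A universal family identifies the cotangent space with the dual of `Hom(I, O/I)`. -/
theorem finrank_cotangent_of_universal (R : Type u) [CommRing R] [IsLocalRing R] [IsNoetherianRing R] [Algebra k R]
    (res : R →ₐ[k] k) (ξ : ArtFun.Family R res (ArtFun.localHilb X (X ↘ Spec (CommRingCat.of k)) I₀))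
    (hξ : ∀ A, Function.Bijective (ξ.app A)) :
    Module.finrank (ResidueField R) (CotangentSpace R) =
      Module.finrank k (ClSub.idealMod I₀ ⟶ ClSub.quotMod I₀) := by
  let W := Module.Dual k (maximalIdeal R).Cotangent
  let Ψ : W →ₗ[k] (ClSub.idealMod I₀ ⟶ ClSub.quotMod I₀) :=
    { toFun := fun f => theta (ξ.app _ (ptD res f))
      map_add' := fun f g => by
        rw [ptD2_plus, ξ.natural, theta_plus, ptD2_pr₁ f g, ξ.natural, ptD2_pr₂ f g, ξ.natural]
      map_smul' := fun c f => by
        rw [ptD_smul, ξ.natural, theta_scale, RingHom.id_apply] }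
  have hΨ : Function.Bijective Ψ := by
    have h := Function.Bijective.comp (Function.Bijective.comp
      (theta_bijective (X ↘ Spec (CommRingCat.of k)) (I₀ := I₀)) (hξ (ArtFun.Art.dual k k))) (ptD_bijective (res := res))
    exact h
  rw [finrank_residue res, ← (LinearEquiv.ofBijective Ψ hΨ).finrank_eq, Subspace.dual_finrank_eq]

end HilbGlueLib
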