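import Groth.Agent.HilbSmoothLib.Bridge

/-!
# The local ring of a Hilbert scheme carries a universal family of the local Hilbert functor
-/

set_option autoImplicit false
set_option linter.style.haveILetI false
set_option linter.unusedSectionVars false
set_option backward.isDefEq.respectTransparency false
set_option backward.isDefEq.respectTransparency.types false
set_option maxHeartbeats 1000000
universe u

open CategoryTheory CategoryTheory.Limits AlgebraicGeometry IsLocalRing

noncomputable section

namespace HilbGlueLib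

variable {k : Type u} [Field k]

theorem exists_universal {X : Scheme.{u}} (f : X ⟶ Spec (CommRingCat.of k)) [IsProper f]
    (H : Over (Spec (CommRingCat.of k))) (Z : FGA.HilbSet f H) (hH : FGA.HilbRepresentedBy f H Z)
    (y : Over.mk (𝟙 (Spec (CommRingCat.of k))) ⟶ H) (I₀ : X.IdealSheafData)
    (hy : FGA.hilbPull f y Z.1 = I₀.comap (pullback.fst f (Over.mk (𝟙 (Spec (CommRingCat.of k)))).hom)) :
    ∃ alg : Algebra k (H.left.presheaf.stalk (y.left.base (IsLocalRing.closedPoint k))),
      letI := alg
      ∃ (res : H.left.presheaf.stalk (y.left.base (IsLocalRing.closedPoint k)) →ₐ[k] k)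
        (ξ : ArtFun.Family _ res (ArtFun.localHilb X f I₀)), ∀ A, Function.Bijective (ξ.app A) := by
  haveI := hH.1
  let p : H.left := y.left.base (IsLocalRing.closedPoint k)
  let R : CommRingCat.{u} := H.left.presheaf.stalk p
  let a : CommRingCat.of k ⟶ R := Spec.preimage (H.left.fromSpecStalk p ≫ H.hom)
  have ha : Spec.map a = H.left.fromSpecStalk p ≫ H.hom := Spec.map_preimage _
  letI : Algebra k R := a.hom.toAlgebra
  obtain ⟨ρ, hρ⟩ := HilbSmoothLib.exists_of_point (B := CommRingCat.of k) y.left (p := p) rfl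
  have haρ : a ≫ ρ = 𝟙 _ := Spec.map_injective (by
    rw [Spec.map_comp, ha, reassoc_of% hρ, Spec.map_id]
    exact Over.w y)
  let res : R →ₐ[k] k :=
    { ρ.hom with commutes' := fun c => congr($(haρ) c) }
  have hres : CommRingCat.ofHom res.toRingHom = ρ := rfl
  let T : ArtFun.Art k k → Over (Spec (CommRingCat.of k)) := fun A => Over.mk (ArtFun.Art.specOver A)
  haveI hT : ∀ A, IsLocallyNoetherian (T A).left := fun A => by
    haveI : IsNoetherianRing (CommRingCat.of A) := inferInstanceAs (IsNoetherianRing A)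
    exact inferInstanceAs (IsLocallyNoetherian (Spec (CommRingCat.of A)))
  haveI : IsLocallyNoetherian (Over.mk (𝟙 (Spec (CommRingCat.of k)))).left :=
    inferInstanceAs (IsLocallyNoetherian (Spec (CommRingCat.of k)))
  let gA : ∀ A, ArtFun.HomSet R res A → (T A ⟶ H) := fun A φ =>
    Over.homMk (Spec.map (CommRingCat.ofHom φ.1.toRingHom) ≫ H.left.fromSpecStalk p) (by
      show (Spec.map _ ≫ _) ≫ H.hom = ArtFun.Art.specOver A
      rw [Category.assoc, ← ha, ← Spec.map_comp]
      refine congrArg Spec.map ?_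
      ext c
      exact φ.1.commutes c)
  have hgA : ∀ A (φ : ArtFun.HomSet R res A), ArtFun.Art.specRes A ≫ (gA A φ).left = y.left := fun A φ => by
    show Spec.map _ ≫ Spec.map _ ≫ _ = _
    rw [← Category.assoc, ← Spec.map_comp, ← hρ, ← hres]
    congr 2
    exact congrArg CommRingCat.ofHom (congrArg AlgHom.toRingHom φ.2)
  have hfl : ∀ {T : Over (Spec (CommRingCat.of k))} (g : T ⟶ H),
      IsProper ((Z.1.comap (PicF.XTmap f g)).subschemeι ≫ PicF.XTproj f T) ∧
        Flat ((Z.1.comap (PicF.XTmap f g)).subschemeι ≫ PicF.XTproj f T) := fun {T} g => by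
    have hsq0 : IsPullback (PicF.XTmap f g) (PicF.XTproj f T) (PicF.XTproj f H) g.left := by
      rw [HilbPts.xtMap_eq]
      exact HilbPts.isPullback_m f g.left (Over.w g)
    have sq : IsPullback (pullback.snd (PicF.XTmap f g) Z.1.subschemeι)
        (pullback.fst (PicF.XTmap f g) Z.1.subschemeι ≫ PicF.XTproj f T)
        (Z.1.subschemeι ≫ PicF.XTproj f H) g.left :=
      IsPullback.paste_vert (IsPullback.of_hasPullback (PicF.XTmap f g) Z.1.subschemeι).flip hsq0
    rw [← Scheme.IdealSheafData.comapIso_hom_fst, Category.assoc]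
    exact ⟨(MorphismProperty.cancel_left_of_respectsIso @IsProper _ _).2
        (MorphismProperty.of_isPullback (P := @IsProper) sq Z.2.1),
      (MorphismProperty.cancel_left_of_respectsIso @Flat _ _).2
        (MorphismProperty.of_isPullback (P := @Flat) sq Z.2.2)⟩
  let σ : X ⟶ PicF.XT f (Over.mk (𝟙 (Spec (CommRingCat.of k)))) :=
    pullback.lift (𝟙 X) f (show 𝟙 X ≫ f = f ≫ 𝟙 _ by rw [Category.id_comp, Category.comp_id])
  have hfib : ∀ A (φ : ArtFun.HomSet R res A),
      (Z.1.comap (PicF.XTmap f (gA A φ))).comap (ArtFun.Art.XAincl f A) = I₀ := fun A φ => by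
    have hincl : ArtFun.Art.XAincl f A ≫ PicF.XTmap f (gA A φ) = σ ≫ PicF.XTmap f y := by
      apply pullback.hom_ext
      · simp only [PicF.XTmap, Category.assoc, pullback.lift_fst, Category.comp_id, σ]
        exact ArtFun.Art.XAincl_fst f A
      · simp only [PicF.XTmap, Category.assoc, pullback.lift_snd, σ]
        rw [← Category.assoc, ← Category.assoc]
        refine (congrArg (· ≫ (gA A φ).left) (ArtFun.Art.XAincl_snd f A)).trans ?_
        rw [Category.assoc, hgA]
        exact congrArg (· ≫ y.left) (pullback.lift_snd _ _ _).symm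
    rw [← Scheme.IdealSheafData.comap_comp]
    refine (congrArg Z.1.comap hincl).trans ?_
    rw [Scheme.IdealSheafData.comap_comp, HilbPts.xtMap_eq, ← HilbPts.pull_eq]
    refine (congrArg (fun J => J.comap σ) hy).trans ?_
    rw [← Scheme.IdealSheafData.comap_comp]
    refine (congrArg I₀.comap (pullback.lift_fst _ _ _)).trans ?_
    exact I₀.comap_id
  have hpull : ∀ A (φ : ArtFun.HomSet R res A),
      FGA.hilbPull f (gA A φ) Z.1 = Z.1.comap (PicF.XTmap f (gA A φ)) := fun A φ =>
    (HilbPts.pull_eq f (gA A φ) Z.1).trans (by rw [← HilbPts.xtMap_eq])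
  refine ⟨inferInstance, res,
    { app := fun A φ => ⟨Z.1.comap (PicF.XTmap f (gA A φ)), (hfl (gA A φ)).2, hfib A φ⟩
      natural := fun {A B} μ φ => Subtype.ext ?_ }, fun A => ⟨fun φ ψ h => ?_, fun IA => ?_⟩⟩
  · show Z.1.comap (PicF.XTmap f (gA B (ArtFun.HomSet.map μ φ))) =
      (Z.1.comap (PicF.XTmap f (gA A φ))).comap (ArtFun.Art.XAmap f μ)
    rw [← Scheme.IdealSheafData.comap_comp]
    refine congrArg Z.1.comap ?_
    apply pullback.hom_ext
    · simp only [PicF.XTmap, Category.assoc, pullback.lift_fst, Category.comp_id]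
      exact (ArtFun.Art.XAmap_fst f μ).symm
    · simp only [PicF.XTmap, Category.assoc, pullback.lift_snd]
      refine Eq.trans ?_ (Category.assoc _ _ _)
      refine Eq.trans ?_ (congrArg (· ≫ (gA A φ).left) (ArtFun.Art.XAmap_snd f μ).symm)
      rw [Category.assoc]
      refine congrArg (pullback.snd f _ ≫ ·) ?_
      show Spec.map _ ≫ _ = Spec.map _ ≫ Spec.map _ ≫ _
      rw [← Category.assoc, ← Spec.map_comp]
      rfl
  · have h1 : Z.1.comap (PicF.XTmap f (gA A φ)) = Z.1.comap (PicF.XTmap f (gA A ψ)) := congrArg Subtype.val h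
    obtain ⟨g, -, huniq⟩ := hH.2 (T A) ⟨Z.1.comap (PicF.XTmap f (gA A φ)), hfl (gA A φ)⟩
    have h2 : gA A φ = gA A ψ := (huniq _ (hpull A φ)).trans (huniq _ ((hpull A ψ).trans h1.symm)).symm
    have h3 : CommRingCat.ofHom φ.1.toRingHom = CommRingCat.ofHom ψ.1.toRingHom :=
      HilbSmoothLib.spec_map_fromSpecStalk_injective (congrArg CommaMorphism.left h2)
    exact Subtype.ext (AlgHom.ext fun r => congr($(h3) r))
  · haveI : IsProper (ArtFun.Art.XApr f A) :=
      MorphismProperty.of_isPullback (P := @IsProper) (IsPullback.of_hasPullback _ _) inferInstance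
    let YA : FGA.HilbSet f (T A) :=
      ⟨IA.1, (inferInstance : IsProper (IA.1.subschemeι ≫ ArtFun.Art.XApr f A)), IA.2.1⟩
    obtain ⟨g, hg, huniqA⟩ := hH.2 (T A) YA
    let s : Over.mk (𝟙 (Spec (CommRingCat.of k))) ⟶ T A := Over.homMk (ArtFun.Art.specRes A) (by
      show Spec.map _ ≫ Spec.map _ = 𝟙 _
      rw [← Spec.map_comp, ← Spec.map_id]
      refine congrArg Spec.map ?_
      ext c
      exact A.res.commutes c)
    have hs : s ≫ g = y := by
      obtain ⟨g₀, -, huniq⟩ := hH.2 (Over.mk (𝟙 (Spec (CommRingCat.of k))))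
        ⟨Z.1.comap (PicF.XTmap f y), hfl y⟩
      refine (huniq _ ?_).trans (huniq _ ?_).symm
      · show FGA.hilbPull f (s ≫ g) Z.1 = Z.1.comap (PicF.XTmap f y)
        refine (HilbPts.pull_eq f (s ≫ g) Z.1).trans ?_
        have hm : HilbPts.m f (s ≫ g).left (Over.w (s ≫ g)) =
            (pullback.fst f (Over.mk (𝟙 (Spec (CommRingCat.of k)))).hom ≫ ArtFun.Art.XAincl f A) ≫
              HilbPts.m f g.left (Over.w g) := by
          apply pullback.hom_ext
          · rw [HilbPts.m_fst, Category.assoc, HilbPts.m_fst, Category.assoc]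
            exact ((congrArg (_ ≫ ·) (ArtFun.Art.XAincl_fst f A)).trans (Category.comp_id _)).symm
          · rw [HilbPts.m_snd, Category.assoc, HilbPts.m_snd, Category.assoc]
            refine Eq.trans ?_ (congrArg (_ ≫ ·) (Category.assoc _ _ _))
            refine Eq.trans ?_ (congrArg (fun t => _ ≫ t ≫ g.left) (ArtFun.Art.XAincl_snd f A).symm)
            rw [Category.assoc, ← Category.assoc (pullback.fst f _), pullback.condition, Category.assoc]
            exact (congrArg (_ ≫ ·) (Category.id_comp _)).symm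
        rw [hm, Scheme.IdealSheafData.comap_comp, ← HilbPts.pull_eq]
        refine (congrArg (fun J : (ArtFun.Art.XA f A).IdealSheafData =>
          J.comap (pullback.fst f (Over.mk (𝟙 (Spec (CommRingCat.of k)))).hom ≫ ArtFun.Art.XAincl f A)) hg).trans ?_
        show IA.1.comap _ = _
        rw [Scheme.IdealSheafData.comap_comp, IA.2.2, ← hy]
        refine (HilbPts.pull_eq f y Z.1).trans ?_
        rw [← HilbPts.xtMap_eq]
      · show FGA.hilbPull f y Z.1 = Z.1.comap (PicF.XTmap f y)
        refine (HilbPts.pull_eq f y Z.1).trans ?_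
        rw [← HilbPts.xtMap_eq]
    have hleft : ArtFun.Art.specRes A ≫ g.left = y.left := congrArg CommaMorphism.left hs
    have hpt : g.left (closedPoint A) = p := by
      haveI : Subsingleton (PrimeSpectrum A) :=
        ⟨fun p q => PrimeSpectrum.ext ((IsLocalRing.eq_maximalIdeal (IsArtinianRing.isMaximal_of_isPrime p.asIdeal)).trans
          (IsLocalRing.eq_maximalIdeal (IsArtinianRing.isMaximal_of_isPrime q.asIdeal)).symm)⟩
      refine (congrArg g.left (Subsingleton.elim (α := PrimeSpectrum A) _
        ((ArtFun.Art.specRes A) (closedPoint k)))).trans ?_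
      exact congrArg (fun h : Spec (CommRingCat.of k) ⟶ H.left => h (closedPoint k)) hleft
    obtain ⟨ψ, hψ⟩ := HilbSmoothLib.exists_of_point (B := CommRingCat.of A) g.left hpt
    have haψ : ∀ c, ψ.hom (algebraMap k R c) = algebraMap k A c := fun c => by
      have h1 : a ≫ ψ = CommRingCat.ofHom (algebraMap k A) := Spec.map_injective (by
        rw [Spec.map_comp, ha, reassoc_of% hψ]
        exact Over.w g)
      exact congr($(h1) c)
    let φA : R →ₐ[k] A := { ψ.hom with commutes' := haψ }
    have hresφ : A.res.comp φA = res := by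
      have h1 : ψ ≫ CommRingCat.ofHom A.res.toRingHom = ρ :=
        HilbSmoothLib.spec_map_fromSpecStalk_injective (by
          rw [Spec.map_comp, Category.assoc, hψ, hρ]
          exact hleft)
      exact AlgHom.ext fun r => congr($(h1) r)
    refine ⟨⟨φA, hresφ⟩, Subtype.ext ?_⟩
    have hgA' : gA A ⟨φA, hresφ⟩ = g := Over.OverMorphism.ext hψ
    show Z.1.comap (PicF.XTmap f (gA A ⟨φA, hresφ⟩)) = IA.1
    rw [← hpull, hgA']
    exact hg

end HilbGlueLib
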