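import Groth.Agent.HilbObsLib.Main

/-!
# Affine opens of `X ×_k Spec A` coming from `X`
-/

set_option autoImplicit false
set_option linter.style.haveILetI false
set_option linter.unusedSectionVars false
set_option backward.isDefEq.respectTransparency false
set_option backward.isDefEq.respectTransparency.types false
set_option maxHeartbeats 1000000
universe u

open CategoryTheory CategoryTheory.Limits AlgebraicGeometry TopologicalSpace Opposite IsLocalRing
open HilbObsLib (str sB)

noncomputable section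

namespace HilbGlueLib

variable {k : Type u} [Field k] {X : Scheme.{u}} (x : X ⟶ ArtFun.Art.specPt k)

instance isAffineHom_fst (A : ArtFun.Art k k) : IsAffineHom (pullback.fst x (ArtFun.Art.specOver A)) :=
  MorphismProperty.pullback_fst (P := @IsAffineHom) _ _ inferInstance

/-- The affine open over `V`. -/
def up (A : ArtFun.Art k k) (V : X.affineOpens) : (ArtFun.Art.XA x A).affineOpens :=
  ⟨pullback.fst x (ArtFun.Art.specOver A) ⁻¹ᵁ V.1, V.2.preimage _⟩

theorem incl_up (A : ArtFun.Art k k) (V : X.affineOpens) : V.1 ≤ ArtFun.Art.XAincl x A ⁻¹ᵁ (up x A V).1 := by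
  rw [up, ← Scheme.Hom.comp_preimage, ArtFun.Art.XAincl_fst]
  exact le_rfl

theorem incl_up_eq (A : ArtFun.Art k k) (V : X.affineOpens) : ArtFun.Art.XAincl x A ⁻¹ᵁ (up x A V).1 = V.1 := by
  rw [up, ← Scheme.Hom.comp_preimage, ArtFun.Art.XAincl_fst]
  rfl

theorem map_up {A B : ArtFun.Art k k} (g : A ⟶ B) (V : X.affineOpens) :
    (up x B V).1 ≤ ArtFun.Art.XAmap x g ⁻¹ᵁ (up x A V).1 := by
  rw [up, up, ← Scheme.Hom.comp_preimage, ArtFun.Art.XAmap_fst]

/-- `k → Γ(X, V)`. -/
def kst (V : X.Opens) : k →+* Γ(X, V) := (str (R := CommRingCat.of k) x V).hom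

/-- `Γ(X, V) → Γ(X ×_k Spec A, V_A)`. -/
def emb (A : ArtFun.Art k k) (V : X.affineOpens) : Γ(X, V.1) →+* Γ(ArtFun.Art.XA x A, (up x A V).1) :=
  ((pullback.fst x (ArtFun.Art.specOver A)).appLE V.1 (up x A V).1 le_rfl).hom

/-- `Γ(X ×_k Spec A, V_A) → Γ(X, V)`. -/
def red (A : ArtFun.Art k k) (V : X.affineOpens) : Γ(ArtFun.Art.XA x A, (up x A V).1) →+* Γ(X, V.1) :=
  ((ArtFun.Art.XAincl x A).appLE (up x A V).1 V.1 (incl_up x A V)).hom

/-- The map on sections induced by `g : A ⟶ B`. -/
def gmap {A B : ArtFun.Art k k} (g : A ⟶ B) (V : X.affineOpens) :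
    Γ(ArtFun.Art.XA x A, (up x A V).1) →+* Γ(ArtFun.Art.XA x B, (up x B V).1) :=
  ((ArtFun.Art.XAmap x g).appLE (up x A V).1 (up x B V).1 (map_up x g V)).hom

theorem red_emb (A : ArtFun.Art k k) (V : X.affineOpens) (a : Γ(X, V.1)) : red x A V (emb x A V a) = a := by
  have h : (pullback.fst x (ArtFun.Art.specOver A)).appLE V.1 (up x A V).1 le_rfl ≫
      (ArtFun.Art.XAincl x A).appLE (up x A V).1 V.1 (incl_up x A V) = 𝟙 _ := by
    have h0 : (pullback.fst x (ArtFun.Art.specOver A)).appLE V.1 (up x A V).1 le_rfl ≫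
      (ArtFun.Art.XAincl x A).appLE (up x A V).1 V.1 (incl_up x A V) =
        (ArtFun.Art.XAincl x A ≫ pullback.fst x (ArtFun.Art.specOver A)).appLE V.1 V.1
          (by rw [ArtFun.Art.XAincl_fst]; exact le_rfl) := Scheme.Hom.appLE_comp_appLE _ _ _ _ _ _ _
    refine h0.trans ?_
    simp only [ArtFun.Art.XAincl_fst]
    exact (Scheme.Hom.app_eq_appLE (f := 𝟙 X) (U := V.1)).symm.trans rfl
  exact congr($(h) a)

theorem red_surjective (A : ArtFun.Art k k) (V : X.affineOpens) : Function.Surjective (red x A V) :=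
  fun a => ⟨_, red_emb x A V a⟩

theorem gmap_emb {A B : ArtFun.Art k k} (g : A ⟶ B) (V : X.affineOpens) (a : Γ(X, V.1)) :
    gmap x g V (emb x A V a) = emb x B V a := by
  have h : (pullback.fst x (ArtFun.Art.specOver A)).appLE V.1 (up x A V).1 le_rfl ≫
      (ArtFun.Art.XAmap x g).appLE (up x A V).1 (up x B V).1 (map_up x g V) =
        (pullback.fst x (ArtFun.Art.specOver B)).appLE V.1 (up x B V).1 le_rfl := by
    rw [Scheme.Hom.appLE_comp_appLE]
    simp only [ArtFun.Art.XAmap_fst]
  exact congr($(h) a)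

theorem red_gmap {A B : ArtFun.Art k k} (g : A ⟶ B) (V : X.affineOpens) (p) :
    red x B V (gmap x g V p) = red x A V p := by
  have h : (ArtFun.Art.XAmap x g).appLE (up x A V).1 (up x B V).1 (map_up x g V) ≫
      (ArtFun.Art.XAincl x B).appLE (up x B V).1 V.1 (incl_up x B V) =
        (ArtFun.Art.XAincl x A).appLE (up x A V).1 V.1 (incl_up x A V) := by
    rw [Scheme.Hom.appLE_comp_appLE]
    simp only [ArtFun.Art.XAincl_XAmap]
  exact congr($(h) p)

theorem gmap_sB {A B : ArtFun.Art k k} (g : A ⟶ B) (V : X.affineOpens) (c : A) :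
    gmap x g V (sB x (up x A V).1 c) = sB x (up x B V).1 (g.toAlgHom c) := by
  have h := HilbObsLib.str_app (ArtFun.Art.isPullback_XAmap x g) (up x A V).1
  have h2 : str (R := CommRingCat.of A) (ArtFun.Art.XApr x A) (up x A V).1 ≫
      (ArtFun.Art.XAmap x g).appLE (up x A V).1 (up x B V).1 (map_up x g V) =
      CommRingCat.ofHom g.toAlgHom.toRingHom ≫ str (R := CommRingCat.of B) (ArtFun.Art.XApr x B) (up x B V).1 := by
    rw [Scheme.Hom.appLE, ← Category.assoc, h, Category.assoc, HilbObsLib.str_res]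
  exact congr($(h2) c)

theorem red_sB (A : ArtFun.Art k k) (V : X.affineOpens) (c : A) :
    red x A V (sB x (up x A V).1 c) = kst x V.1 (A.res c) := by
  have h := HilbObsLib.str_app (ArtFun.isPullback_XAincl x A) (up x A V).1
  have h2 : str (R := CommRingCat.of A) (ArtFun.Art.XApr x A) (up x A V).1 ≫
      (ArtFun.Art.XAincl x A).appLE (up x A V).1 V.1 (incl_up x A V) =
      CommRingCat.ofHom A.res.toRingHom ≫ str (R := CommRingCat.of k) x V.1 := by
    rw [Scheme.Hom.appLE, ← Category.assoc, h, Category.assoc, HilbObsLib.str_res]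
  exact congr($(h2) c)

theorem sB_algebraMap (A : ArtFun.Art k k) (V : X.affineOpens) (c : k) :
    sB x (up x A V).1 (algebraMap k A c) = emb x A V (kst x V.1 c) := by
  have key : CommRingCat.ofHom (algebraMap k A) ≫ str (R := CommRingCat.of A) (ArtFun.Art.XApr x A) (up x A V).1 =
      str (R := CommRingCat.of k) x V.1 ≫ (pullback.fst x (ArtFun.Art.specOver A)).appLE V.1 (up x A V).1 le_rfl := by
    have hw : pullback.fst x (ArtFun.Art.specOver A) ≫ x = ArtFun.Art.XApr x A ≫ ArtFun.Art.specOver A :=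
      pullback.condition
    rw [HilbObsLib.str, HilbObsLib.str, Category.assoc, Scheme.Hom.appLE_comp_appLE]
    simp only [hw]
    rw [Scheme.Hom.comp_appLE, ← Category.assoc, ← Category.assoc]
    congr 1
    exact Scheme.ΓSpecIso_inv_naturality _
  exact congr($(key) c)

theorem ker_red (A : ArtFun.Art k k) (V : X.affineOpens) :
    RingHom.ker (red x A V) = (maximalIdeal A).map (sB x (up x A V).1) := by
  rw [← HilbObsLib.ker_incl_app x (up x A V).2]
  ext p
  rw [RingHom.mem_ker, RingHom.mem_ker, red, Scheme.Hom.appLE]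
  haveI : IsIso (X.presheaf.map (homOfLE (incl_up x A V)).op) := by
    rw [show (homOfLE (incl_up x A V)).op = eqToHom (congrArg op (incl_up_eq x A V)) from Subsingleton.elim _ _]
    infer_instance
  constructor
  · intro h
    have hinj := (ConcreteCategory.bijective_of_isIso (X.presheaf.map (homOfLE (incl_up x A V)).op)).1
    exact hinj (h.trans (map_zero _).symm)
  · intro h
    show X.presheaf.map _ (((ArtFun.Art.XAincl x A).app _) p) = 0
    rw [h, map_zero]

theorem sub_emb_red_mem (A : ArtFun.Art k k) (V : X.affineOpens) (p : Γ(ArtFun.Art.XA x A, (up x A V).1)) :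
    p - emb x A V (red x A V p) ∈ (maximalIdeal A).map (sB x (up x A V).1) := by
  rw [← ker_red, RingHom.mem_ker, map_sub, red_emb, sub_self]

theorem map_red_ideal (A : ArtFun.Art k k) (V : X.affineOpens) (I : (ArtFun.Art.XA x A).IdealSheafData) :
    (I.ideal (up x A V)).map (red x A V) = (I.comap (ArtFun.Art.XAincl x A)).ideal V :=
  RGFlatLib.ideal_comap_appLE _ I (up x A V).2 V.2 (incl_up x A V)

theorem map_gmap_ideal {A B : ArtFun.Art k k} (g : A ⟶ B) (V : X.affineOpens)
    (I : (ArtFun.Art.XA x A).IdealSheafData) :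
    (I.ideal (up x A V)).map (gmap x g V) = (I.comap (ArtFun.Art.XAmap x g)).ideal (up x B V) :=
  RGFlatLib.ideal_comap_appLE _ I (up x A V).2 (up x B V).2 (map_up x g V)

theorem iSup_up (A : ArtFun.Art k k) : ⨆ V : X.affineOpens, (up x A V).1 = ⊤ := by
  refine eq_top_iff.2 fun p _ => ?_
  obtain ⟨W, hW, hp⟩ := QCohLib.exists_affine_nhd (pullback.fst x (ArtFun.Art.specOver A) p)
  exact Opens.mem_iSup.2 ⟨⟨W, hW⟩, hp⟩

theorem ext_up {A : ArtFun.Art k k} {I J : (ArtFun.Art.XA x A).IdealSheafData}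
    (h : ∀ V : X.affineOpens, I.ideal (up x A V) = J.ideal (up x A V)) : I = J :=
  Scheme.IdealSheafData.ext_of_iSup_eq_top (up x A) (iSup_up x A) h

/-- Restriction maps. -/
theorem res_red (A : ArtFun.Art k k) {V W : X.affineOpens} (h : W.1 ≤ V.1)
    (h' : (up x A W).1 ≤ (up x A V).1) (p) :
    X.presheaf.map (homOfLE h).op (red x A V p) =
      red x A W ((ArtFun.Art.XA x A).presheaf.map (homOfLE h').op p) := by
  have e : (ArtFun.Art.XAincl x A).appLE (up x A V).1 V.1 (incl_up x A V) ≫ X.presheaf.map (homOfLE h).op =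
      (ArtFun.Art.XA x A).presheaf.map (homOfLE h').op ≫
        (ArtFun.Art.XAincl x A).appLE (up x A W).1 W.1 (incl_up x A W) := by
    rw [Scheme.Hom.appLE_map, Scheme.Hom.map_appLE]
  exact congr($(e) p)

theorem res_emb (A : ArtFun.Art k k) {V W : X.affineOpens} (h : W.1 ≤ V.1)
    (h' : (up x A W).1 ≤ (up x A V).1) (a) :
    (ArtFun.Art.XA x A).presheaf.map (homOfLE h').op (emb x A V a) =
      emb x A W (X.presheaf.map (homOfLE h).op a) := by
  have e : (pullback.fst x (ArtFun.Art.specOver A)).appLE V.1 (up x A V).1 le_rfl ≫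
      (ArtFun.Art.XA x A).presheaf.map (homOfLE h').op =
        X.presheaf.map (homOfLE h).op ≫ (pullback.fst x (ArtFun.Art.specOver A)).appLE W.1 (up x A W).1 le_rfl := by
    rw [Scheme.Hom.appLE_map, Scheme.Hom.map_appLE]
  exact congr($(e) a)

theorem res_sB (A : ArtFun.Art k k) {U U' : (ArtFun.Art.XA x A).Opens} (h : U' ≤ U) (c : A) :
    (ArtFun.Art.XA x A).presheaf.map (homOfLE h).op (sB x U c) = sB x U' c :=
  congr($(HilbObsLib.str_res (R := CommRingCat.of A) (ArtFun.Art.XApr x A) h) c)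

theorem res_kst {V W : X.Opens} (h : W ≤ V) (c : k) :
    X.presheaf.map (homOfLE h).op (kst x V c) = kst x W c :=
  congr($(HilbObsLib.str_res (R := CommRingCat.of k) x h) c)

end HilbGlueLib
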