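import Groth.Agent.HilbGlueLib.Aff
import Groth.Agent.EtTwoLib.BasisHom

/-!
# Embedded deformations over the dual numbers
-/

set_option autoImplicit false
set_option linter.style.haveILetI false
set_option linter.unusedSectionVars false
set_option backward.isDefEq.respectTransparency false
set_option backward.isDefEq.respectTransparency.types false
set_option maxHeartbeats 1000000
universe u

open CategoryTheory CategoryTheory.Limits AlgebraicGeometry TopologicalSpace Opposite IsLocalRing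
open HilbObsLib (str sB)

noncomputable section

namespace HilbGlueLib

variable {k : Type u} [Field k] {X : Scheme.{u}} (x : X ⟶ ArtFun.Art.specPt k) (I₀ : X.IdealSheafData)

/-- The dual numbers. -/
abbrev D (k : Type u) [Field k] : ArtFun.Art k k := ArtFun.Art.dual k k

/-- `ε`. -/
def eps : D k := (DualNumber.eps : DualNumber k)

theorem max_dual : maximalIdeal (D k) = Ideal.span {(eps : D k)} := by
  refine le_antisymm (fun c hc => ?_) (Ideal.span_le.2 (Set.singleton_subset_iff.2 ?_))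
  · rw [ArtFun.Art.mem_maximalIdeal_iff] at hc
    refine Ideal.mem_span_singleton'.2 ⟨algebraMap k (D k) (TrivSqZeroExt.snd (R := k) (M := k) c), ?_⟩
    refine TrivSqZeroExt.ext ?_ ?_
    · exact (mul_zero _).trans (show TrivSqZeroExt.fst (R := k) (M := k) c = 0 from hc).symm
    · exact (congrArg₂ (· + ·) (smul_eq_mul _ _) rfl).trans (by
        show TrivSqZeroExt.snd (R := k) (M := k) c * 1 + MulOpposite.op (0 : k) • _ = _
        rw [mul_one, MulOpposite.op_zero, zero_smul, add_zero])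
  · exact (ArtFun.Art.mem_maximalIdeal_iff _ _).2 rfl

theorem eps_mul_eps : (eps : D k) * eps = 0 := DualNumber.eps_mul_eps

theorem eps_ne_zero : (eps : D k) ≠ 0 := fun h =>
  one_ne_zero (α := k) (congrArg (fun z : DualNumber k => TrivSqZeroExt.snd z) h)

/-- `ε` on `V_D`. -/
def E (V : X.affineOpens) : Γ(ArtFun.Art.XA x (D k), (up x (D k) V).1) := sB x (up x (D k) V).1 eps

theorem mP_eq (V : X.affineOpens) :
    (maximalIdeal (D k)).map (sB x (up x (D k) V).1) = Ideal.span {E x V} := by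
  rw [max_dual, Ideal.map_span, Set.image_singleton]
  rfl

theorem E_sq (V : X.affineOpens) : E x V * E x V = 0 := by
  rw [E, ← map_mul, eps_mul_eps, map_zero]

theorem red_E (V : X.affineOpens) : red x (D k) V (E x V) = 0 := by
  rw [← RingHom.mem_ker, ker_red, mP_eq]
  exact Ideal.mem_span_singleton_self _

theorem E_mul_emb_red (V : X.affineOpens) (q : Γ(ArtFun.Art.XA x (D k), (up x (D k) V).1)) :
    E x V * q = E x V * emb x (D k) V (red x (D k) V q) := by
  have h := sub_emb_red_mem x (D k) V q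
  rw [mP_eq] at h
  obtain ⟨c, hc⟩ := Ideal.mem_span_singleton'.1 h
  rw [← sub_eq_zero, ← mul_sub, ← hc, mul_left_comm, E_sq, mul_zero]

theorem exists_coeff (V : X.affineOpens) (p : Γ(ArtFun.Art.XA x (D k), (up x (D k) V).1)) :
    ∃ b, p = emb x (D k) V (red x (D k) V p) + E x V * emb x (D k) V b := by
  have h := sub_emb_red_mem x (D k) V p
  rw [mP_eq] at h
  obtain ⟨c, hc⟩ := Ideal.mem_span_singleton'.1 h
  exact ⟨red x (D k) V c, by rw [← E_mul_emb_red, mul_comm, hc, add_sub_cancel]⟩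

theorem mul_eps_mem {V : X.affineOpens} {I : (ArtFun.Art.XA x (D k)).IdealSheafData}
    (hI : ArtFun.FlatOver X x (D k) I) {q : Γ(ArtFun.Art.XA x (D k), (up x (D k) V).1)}
    (h : E x V * q ∈ I.ideal (up x (D k) V)) :
    red x (D k) V q ∈ (I.comap (ArtFun.Art.XAincl x (D k))).ideal V := by
  letI := (sB x (up x (D k) V).1).toAlgebra
  haveI := HilbObsLib.flat_quot_affine x I hI (up x (D k) V)
  let P := Γ(ArtFun.Art.XA x (D k), (up x (D k) V).1)
  let K := I.ideal (up x (D k) V)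
  have h1 := DefLib.mem_of_algebraMap_mul_mem (R := P ⧸ K) (LCIDefLib.maximalIdeal_isNilpotent (C := D k))
    (J' := ⊥) (ε := (eps : D k)) eps_ne_zero (a := Ideal.Quotient.mk K q) (by
      rw [Ideal.map_bot, Ideal.mem_bot, IsScalarTower.algebraMap_apply (D k) P (P ⧸ K),
        Ideal.Quotient.algebraMap_eq, ← map_mul, Ideal.Quotient.eq_zero_iff_mem]
      exact h)
  rw [IsScalarTower.algebraMap_eq (D k) P (P ⧸ K), ← Ideal.map_map, Ideal.Quotient.algebraMap_eq,
    ← Ideal.mem_comap, Ideal.comap_map_of_surjective' _ Ideal.Quotient.mk_surjective, Ideal.mk_ker] at h1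
  have h1' : q ∈ (maximalIdeal (D k)).map (sB x (up x (D k) V).1) ⊔ I.ideal (up x (D k) V) := h1
  obtain ⟨a, ha, b, hb, rfl⟩ := Submodule.mem_sup.1 h1'
  rw [map_add, show red x (D k) V a = 0 from RingHom.mem_ker.1 ((ker_red x (D k) V).ge ha), zero_add,
    ← map_red_ideal]
  exact Ideal.mem_map_of_mem _ hb

/-- `emb a + ε emb b` lies in `I`. -/
def Rep (I : (ArtFun.Art.XA x (D k)).IdealSheafData) (V : X.affineOpens) (a b : Γ(X, V.1)) : Prop :=
  emb x (D k) V a + E x V * emb x (D k) V b ∈ I.ideal (up x (D k) V)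

variable {x I₀}

theorem red_rep (V : X.affineOpens) (a b : Γ(X, V.1)) :
    red x (D k) V (emb x (D k) V a + E x V * emb x (D k) V b) = a := by
  rw [map_add, map_mul, red_E, zero_mul, add_zero, red_emb]

variable {I : (ArtFun.localHilb X x I₀).obj (D k)} {V : X.affineOpens}

theorem Rep.mem {a b : Γ(X, V.1)} (h : Rep x I.1 V a b) : a ∈ I₀.ideal V := by
  rw [← I.2.2, ← map_red_ideal, ← red_rep (x := x) V a b]
  exact Ideal.mem_map_of_mem _ h

theorem exists_rep (a : Γ(X, V.1)) (ha : a ∈ I₀.ideal V) : ∃ b, Rep x I.1 V a b := by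
  rw [← I.2.2, ← map_red_ideal, Ideal.mem_map_iff_of_surjective _ (red_surjective x (D k) V)] at ha
  obtain ⟨p, hp, rfl⟩ := ha
  obtain ⟨b, hb⟩ := exists_coeff x V p
  exact ⟨b, by rw [Rep, ← hb]; exact hp⟩

theorem Rep.sub_mem {a b b' : Γ(X, V.1)} (h : Rep x I.1 V a b) (h' : Rep x I.1 V a b') :
    b - b' ∈ I₀.ideal V := by
  have h1 : E x V * emb x (D k) V (b - b') ∈ I.1.ideal (up x (D k) V) := by
    have h2 := Ideal.sub_mem _ h h'
    convert h2 using 1
    rw [map_sub]; ring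
  have := mul_eps_mem x I.2.1 h1
  rwa [red_emb, I.2.2] at this

theorem Rep.add {J : (ArtFun.Art.XA x (D k)).IdealSheafData} {a b a' b' : Γ(X, V.1)} (h : Rep x J V a b)
    (h' : Rep x J V a' b') : Rep x J V (a + a') (b + b') := by
  have h2 := Ideal.add_mem _ h h'
  unfold Rep
  convert h2 using 1
  rw [map_add, map_add]; ring

theorem Rep.smul {J : (ArtFun.Art.XA x (D k)).IdealSheafData} (r : Γ(X, V.1)) {a b : Γ(X, V.1)}
    (h : Rep x J V a b) : Rep x J V (r * a) (r * b) := by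
  have h2 := Ideal.mul_mem_left _ (emb x (D k) V r) h
  unfold Rep
  convert h2 using 1
  rw [map_mul, map_mul]; ring

theorem up_mono (A : ArtFun.Art k k) {V W : X.affineOpens} (h : W.1 ≤ V.1) : (up x A W).1 ≤ (up x A V).1 :=
  fun _ hp => h hp

theorem Rep.res {J : (ArtFun.Art.XA x (D k)).IdealSheafData} {W : X.affineOpens} (hW : W.1 ≤ V.1)
    {a b : Γ(X, V.1)} (h : Rep x J V a b) :
    Rep x J W (X.presheaf.map (homOfLE hW).op a) (X.presheaf.map (homOfLE hW).op b) := by
  have h2 := Ideal.mem_map_of_mem ((ArtFun.Art.XA x (D k)).presheaf.map (homOfLE (up_mono _ hW)).op).hom h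
  replace h2 := (J.map_ideal (U := up x (D k) W) (V := up x (D k) V) (up_mono _ hW)).le h2
  rw [map_add, map_mul] at h2
  rw [Rep, ← res_emb x (D k) hW (up_mono _ hW), ← res_emb x (D k) hW (up_mono _ hW)]
  rwa [show E x W = (ArtFun.Art.XA x (D k)).presheaf.map (homOfLE (up_mono _ hW)).op (E x V) from
    (res_sB x (D k) (up_mono _ hW) _).symm]

/-- The value in `O/I₀` of a section. -/
def qv (I₀ : X.IdealSheafData) (V : X.affineOpens) (b : Γ(X, V.1)) : Γ(ClSub.quotMod I₀, V.1) :=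
  (ClSub.toSubscheme I₀).app V.1 (b : Γ(Coh.structureModule X, V.1))

theorem qv_eq_zero (V : X.affineOpens) (b : Γ(X, V.1)) : qv I₀ V b = 0 ↔ b ∈ I₀.ideal V :=
  GenFlatStrat.subschemeι_app_eq_zero_iff I₀ V b

theorem qv_add (V : X.affineOpens) (a b : Γ(X, V.1)) : qv I₀ V (a + b) = qv I₀ V a + qv I₀ V b :=
  map_add ((ClSub.toSubscheme I₀).app V.1).hom _ _

theorem qv_sub (V : X.affineOpens) (a b : Γ(X, V.1)) : qv I₀ V (a - b) = qv I₀ V a - qv I₀ V b :=
  map_sub ((ClSub.toSubscheme I₀).app V.1).hom _ _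

theorem qv_mul (V : X.affineOpens) (r b : Γ(X, V.1)) : qv I₀ V (r * b) = r • qv I₀ V b :=
  QCohLib.app_smul (ClSub.toSubscheme I₀) V.1 r _

theorem qv_surjective (V : X.affineOpens) : Function.Surjective (qv I₀ V) := fun y => by
  obtain ⟨r, hr⟩ := Scheme.Hom.app_surjective I₀.subschemeι V.1 V.2 y
  exact ⟨r, hr⟩

theorem qv_eq_of_rep {a b b' : Γ(X, V.1)} (h : Rep x I.1 V a b) (h' : Rep x I.1 V a b') :
    qv I₀ V b = qv I₀ V b' := by
  rw [← sub_eq_zero, ← qv_sub, qv_eq_zero]
  exact h.sub_mem h'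

theorem qv_res {W : X.affineOpens} (hW : W.1 ≤ V.1) (b : Γ(X, V.1)) :
    (ClSub.quotMod I₀).presheaf.map (homOfLE hW).op (qv I₀ V b) = qv I₀ W (X.presheaf.map (homOfLE hW).op b) :=
  (QCohLib.app_map (ClSub.toSubscheme I₀) (homOfLE hW) (b : Γ(Coh.structureModule X, V.1))).symm

/-- The value of a section of the ideal module. -/
def val (I₀ : X.IdealSheafData) (U : X.Opens) (s : Γ(ClSub.idealMod I₀, U)) : Γ(X, U) :=
  OmegaSh.fnSect _ U ((ClSub.idealModι I₀).app U s)

theorem val_add (U : X.Opens) (a b : Γ(ClSub.idealMod I₀, U)) : val I₀ U (a + b) = val I₀ U a + val I₀ U b := by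
  simp only [val, map_add]

theorem val_smul (U : X.Opens) (r : Γ(X, U)) (a : Γ(ClSub.idealMod I₀, U)) : val I₀ U (r • a) = r * val I₀ U a :=
  congrArg (OmegaSh.fnSect _ _) (QCohLib.app_smul (ClSub.idealModι I₀) _ r a)

theorem val_mem (V : X.affineOpens) (s : Γ(ClSub.idealMod I₀, V.1)) : val I₀ V.1 s ∈ I₀.ideal V :=
  GenFlatStrat.idealModι_mem I₀ V s

theorem exists_val (V : X.affineOpens) (a : Γ(X, V.1)) (ha : a ∈ I₀.ideal V) : ∃ s, val I₀ V.1 s = a :=
  GenFlatStrat.exists_idealMod_section I₀ V a ha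

theorem val_res {U W : X.Opens} (hW : W ≤ U) (s : Γ(ClSub.idealMod I₀, U)) :
    val I₀ W ((ClSub.idealMod I₀).presheaf.map (homOfLE hW).op s) =
      X.presheaf.map (homOfLE hW).op (val I₀ U s) :=
  congrArg (OmegaSh.fnSect _ W) (QCohLib.app_map (ClSub.idealModι I₀) (homOfLE hW) s)

/-- The value of the first order deformation on a section of the ideal. -/
def tval (I : (ArtFun.localHilb X x I₀).obj (D k)) (V : X.affineOpens) (m : Γ(ClSub.idealMod I₀, V.1)) :
    Γ(ClSub.quotMod I₀, V.1) :=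
  qv I₀ V (exists_rep (I := I) (val I₀ V.1 m) (val_mem V m)).choose

theorem tval_eq {m : Γ(ClSub.idealMod I₀, V.1)} {b : Γ(X, V.1)} (h : Rep x I.1 V (val I₀ V.1 m) b) :
    tval I V m = qv I₀ V b :=
  qv_eq_of_rep (exists_rep (I := I) (val I₀ V.1 m) (val_mem V m)).choose_spec h

theorem exists_hom (I : (ArtFun.localHilb X x I₀).obj (D k)) :
    ∃ φ : ClSub.idealMod I₀ ⟶ ClSub.quotMod I₀, ∀ (V : X.affineOpens) m, φ.app V.1 m = tval I V m := by
  let Φ : ∀ V : X.affineOpens, Γ(ClSub.idealMod I₀, V.1) →+ Γ(ClSub.quotMod I₀, V.1) := fun V =>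
    AddMonoidHom.mk' (tval I V) fun m m' => by
      obtain ⟨b, hb⟩ := exists_rep (I := I) (val I₀ V.1 m) (val_mem V m)
      obtain ⟨b', hb'⟩ := exists_rep (I := I) (val I₀ V.1 m') (val_mem V m')
      rw [tval_eq hb, tval_eq hb', ← qv_add]
      exact tval_eq (by rw [val_add]; exact hb.add hb')
  exact EtTwoLib.exists_hom_of_basis (fun V : X.affineOpens => V.1)
    (Opens.isBasis_iff_nbhd.mpr fun {U p} hp => by
      obtain ⟨W, hW, hpW, hWU⟩ := Opens.isBasis_iff_nbhd.mp X.isBasis_affineOpens hp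
      exact ⟨W, ⟨⟨W, hW⟩, rfl⟩, hpW, hWU⟩) Φ
    (fun V W h m => by
      obtain ⟨b, hb⟩ := exists_rep (I := I) (val I₀ V.1 m) (val_mem V m)
      show (ClSub.quotMod I₀).presheaf.map _ (tval I V m) = tval I W _
      rw [tval_eq hb, qv_res]
      exact (tval_eq (by rw [val_res]; exact hb.res h)).symm)
    (fun V r m => by
      obtain ⟨b, hb⟩ := exists_rep (I := I) (val I₀ V.1 m) (val_mem V m)
      show tval I V (r • m) = r • tval I V m
      rw [tval_eq hb, ← qv_mul]
      exact tval_eq (by rw [val_smul]; exact hb.smul r))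

/-- The homomorphism `I₀ → O/I₀` of a first order deformation. -/
def theta (I : (ArtFun.localHilb X x I₀).obj (D k)) : ClSub.idealMod I₀ ⟶ ClSub.quotMod I₀ := (exists_hom I).choose

theorem theta_app {m : Γ(ClSub.idealMod I₀, V.1)} {b : Γ(X, V.1)} (h : Rep x I.1 V (val I₀ V.1 m) b) :
    (theta I).app V.1 m = qv I₀ V b :=
  ((exists_hom I).choose_spec V m).trans (tval_eq h)

theorem theta_app_iff {m : Γ(ClSub.idealMod I₀, V.1)} {b : Γ(X, V.1)} :
    Rep x I.1 V (val I₀ V.1 m) b ↔ (theta I).app V.1 m = qv I₀ V b := by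
  refine ⟨theta_app, fun h => ?_⟩
  obtain ⟨b', hb'⟩ := exists_rep (I := I) (val I₀ V.1 m) (val_mem V m)
  rw [theta_app hb', ← sub_eq_zero, ← qv_sub, qv_eq_zero] at h
  obtain ⟨b'', hb''⟩ := exists_rep (I := I) _ h
  have h1 := Ideal.sub_mem _ hb' (Ideal.mul_mem_left _ (E x V) hb'')
  unfold Rep
  convert h1 using 1
  rw [mul_add, ← mul_assoc, E_sq, zero_mul, add_zero, map_sub]
  ring

theorem theta_injective : Function.Injective (theta (x := x) (I₀ := I₀)) := by
  intro I J h
  refine Subtype.ext (ext_up x fun V => ?_)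
  have key : ∀ (I J : (ArtFun.localHilb X x I₀).obj (D k)), theta I = theta J →
      I.1.ideal (up x (D k) V) ≤ J.1.ideal (up x (D k) V) := fun I J h p hp => by
    obtain ⟨b, hb⟩ := exists_coeff x V p
    have hr : Rep x I.1 V (red x (D k) V p) b := by rw [Rep, ← hb]; exact hp
    obtain ⟨m, hm⟩ := exists_val V _ hr.mem
    rw [← hm] at hr
    have h2 : Rep x J.1 V (val I₀ V.1 m) b := theta_app_iff.2 (h ▸ theta_app hr)
    rw [Rep, hm, ← hb] at h2
    exact h2
  exact le_antisymm (key I J h) (key J I h.symm)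

end HilbGlueLib
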