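import Groth.Agent.HilbGlueLib.Dual

/-!
# Every homomorphism `I₀ → O/I₀` is a first order embedded deformation
-/

set_option autoImplicit false
set_option linter.style.haveILetI false
set_option linter.unusedSectionVars false
set_option backward.isDefEq.respectTransparency false
set_option backward.isDefEq.respectTransparency.types false
set_option maxHeartbeats 1000000
universe u

open CategoryTheory CategoryTheory.Limits AlgebraicGeometry TopologicalSpace Opposite IsLocalRing
open HilbObsLib (str sB)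

noncomputable section

namespace HilbGlueLib

variable {k : Type u} [Field k] {X : Scheme.{u}} {x : X ⟶ ArtFun.Art.specPt k} {I₀ : X.IdealSheafData}

theorem eq_zero_of_E_mul (V : X.affineOpens) {c : Γ(X, V.1)} (h : E x V * emb x (D k) V c = 0) : c = 0 := by
  letI := (sB x (up x (D k) V).1).toAlgebra
  haveI := HilbObsLib.flat_affine x (B := D k) (up x (D k) V).2
  have h1 := DefLib.mem_of_algebraMap_mul_mem (R := Γ(ArtFun.Art.XA x (D k), (up x (D k) V).1))
    (LCIDefLib.maximalIdeal_isNilpotent (C := D k)) (J' := ⊥) (ε := (eps : D k)) eps_ne_zero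
    (a := emb x (D k) V c) (by
      rw [Ideal.map_bot, Ideal.mem_bot]
      exact h)
  have h2 : red x (D k) V (emb x (D k) V c) = 0 := RingHom.mem_ker.1 ((ker_red x (D k) V).ge h1)
  rwa [red_emb] at h2

theorem coeff_unique (V : X.affineOpens) {a b a' b' : Γ(X, V.1)}
    (h : emb x (D k) V a + E x V * emb x (D k) V b = emb x (D k) V a' + E x V * emb x (D k) V b') :
    a = a' ∧ b = b' := by
  have ha : a = a' := by
    have := congrArg (red x (D k) V) h
    rwa [red_rep (x := x), red_rep (x := x)] at this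
  subst ha
  refine ⟨rfl, sub_eq_zero.1 (eq_zero_of_E_mul (x := x) V ?_)⟩
  rw [map_sub, mul_sub, sub_eq_zero]
  exact add_left_cancel h

variable (x) (ψ : ClSub.idealMod I₀ ⟶ ClSub.quotMod I₀)

theorem app_of_val_zero {V : X.affineOpens} {m : Γ(ClSub.idealMod I₀, V.1)} (h : val I₀ V.1 m = 0) :
    ψ.app V.1 m = 0 := by
  haveI : Mono (ClSub.idealModι I₀) := inferInstanceAs (Mono (kernel.ι _))
  have h0 : val I₀ V.1 (0 : Γ(ClSub.idealMod I₀, V.1)) = 0 := by simp only [val, map_zero]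
  have : m = 0 := QCohLib.app_injective_of_mono (ClSub.idealModι I₀) V.1 (h.trans h0.symm)
  rw [this]
  exact map_zero (ψ.app V.1).hom

/-- The ideal of the deformation of `ψ`. -/
def K (V : X.affineOpens) : Ideal Γ(ArtFun.Art.XA x (D k), (up x (D k) V).1) where
  carrier := {p | ∃ (m : Γ(ClSub.idealMod I₀, V.1)) (b : Γ(X, V.1)),
    p = emb x (D k) V (val I₀ V.1 m) + E x V * emb x (D k) V b ∧ ψ.app V.1 m = qv I₀ V b}
  add_mem' := by
    rintro p p' ⟨m, b, rfl, hb⟩ ⟨m', b', rfl, hb'⟩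
    refine ⟨m + m', b + b', ?_, ?_⟩
    · rw [val_add, map_add, map_add]; ring
    · rw [qv_add, ← hb, ← hb']
      exact map_add (ψ.app V.1).hom m m'
  zero_mem' := ⟨0, 0, by simp only [val, map_zero, mul_zero, add_zero], by
    rw [(qv_eq_zero V 0).2 (zero_mem _)]
    exact map_zero (ψ.app V.1).hom⟩
  smul_mem' := by
    rintro r p ⟨m, b, rfl, hb⟩
    obtain ⟨r₁, hr₁⟩ := exists_coeff x V r
    refine ⟨red x (D k) V r • m, red x (D k) V r * b + val I₀ V.1 m * r₁, ?_, ?_⟩
    · rw [smul_eq_mul, val_smul]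
      conv_lhs => rw [hr₁]
      rw [map_mul, map_add, map_mul, map_mul]
      linear_combination (emb x (D k) V r₁ * emb x (D k) V b) * E_sq x V
    · rw [QCohLib.app_smul, hb, qv_add, qv_mul, (qv_eq_zero V (val I₀ V.1 m * r₁)).2
        (Ideal.mul_mem_right _ _ (val_mem V m)), add_zero]

theorem map_K {V W : X.affineOpens} (h : W.1 ≤ V.1) :
    (K x ψ V).map ((ArtFun.Art.XA x (D k)).presheaf.map (homOfLE (up_mono (x := x) (D k) h)).op).hom =
      K x ψ W := by
  let r := ((ArtFun.Art.XA x (D k)).presheaf.map (homOfLE (up_mono (x := x) (D k) h)).op).hom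
  have hre : ∀ a, r (emb x (D k) V a) = emb x (D k) W (X.presheaf.map (homOfLE h).op a) := fun a =>
    res_emb x (D k) h _ a
  have hrE : r (E x V) = E x W := res_sB x (D k) _ _
  refine le_antisymm (Ideal.map_le_iff_le_comap.2 ?_) fun q hq => ?_
  · rintro p ⟨m, b, rfl, hb⟩
    refine ⟨(ClSub.idealMod I₀).presheaf.map (homOfLE h).op m, X.presheaf.map (homOfLE h).op b, ?_, ?_⟩
    · rw [val_res]
      show r _ = _
      rw [map_add, map_mul, hre, hre, hrE]
    · rw [QCohLib.app_map ψ (homOfLE h) m, hb, qv_res]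
  · let T := (K x ψ V).map r
    have hTK : T ≤ K x ψ W := by
      refine Ideal.map_le_iff_le_comap.2 ?_
      rintro p ⟨m, b, rfl, hb⟩
      refine ⟨(ClSub.idealMod I₀).presheaf.map (homOfLE h).op m, X.presheaf.map (homOfLE h).op b, ?_, ?_⟩
      · rw [val_res]
        show r _ = _
        rw [map_add, map_mul, hre, hre, hrE]
      · rw [QCohLib.app_map ψ (homOfLE h) m, hb, qv_res]
    -- every element of `I₀(W)` leads an element of `T`
    have hlead : ∀ a ∈ I₀.ideal W, ∃ b', emb x (D k) W a + E x W * emb x (D k) W b' ∈ T := by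
      intro a ha
      rw [← I₀.map_ideal (U := W) (V := V) h] at ha
      refine Submodule.span_induction ?_ ?_ ?_ ?_ ha
      · rintro _ ⟨a, ha, rfl⟩
        obtain ⟨m, rfl⟩ := exists_val V a ha
        obtain ⟨b, hb⟩ := qv_surjective V (ψ.app V.1 m)
        refine ⟨X.presheaf.map (homOfLE h).op b, ?_⟩
        have := Ideal.mem_map_of_mem r (show _ ∈ K x ψ V from ⟨m, b, rfl, hb.symm⟩)
        rwa [map_add, map_mul, hre, hre, hrE] at this
      · exact ⟨0, by simp only [map_zero, mul_zero, add_zero]; exact zero_mem _⟩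
      · rintro a a' - - ⟨b, hb⟩ ⟨b', hb'⟩
        exact ⟨b + b', by convert add_mem hb hb' using 1; rw [map_add, map_add]; ring⟩
      · rintro c a - ⟨b, hb⟩
        exact ⟨c * b, by
          convert Ideal.mul_mem_left _ (emb x (D k) W c) hb using 1
          rw [smul_eq_mul, map_mul, map_mul]; ring⟩
    obtain ⟨m, b, rfl, hb⟩ := hq
    obtain ⟨b', hb'⟩ := hlead _ (val_mem W m)
    obtain ⟨m'', b'', he, hb''⟩ := hTK hb'
    obtain ⟨hv, rfl⟩ := coeff_unique (x := x) W he
    have hm : m = m'' := by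
      haveI : Mono (ClSub.idealModι I₀) := inferInstanceAs (Mono (kernel.ι _))
      exact QCohLib.app_injective_of_mono (ClSub.idealModι I₀) W.1 hv
    subst hm
    have hd : b - b' ∈ I₀.ideal W := by
      rw [← qv_eq_zero, qv_sub, ← hb, ← hb'', sub_self]
    obtain ⟨b₂, hb₂⟩ := hlead _ hd
    have := add_mem hb' (Ideal.mul_mem_left _ (E x W) hb₂)
    convert this using 1
    rw [mul_add, ← mul_assoc, E_sq, zero_mul, add_zero, map_sub]
    ring

theorem incl_preimage_affine {A : ArtFun.Art k k} (U : (ArtFun.Art.XA x A).affineOpens) :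
    IsAffineOpen (ArtFun.Art.XAincl x A ⁻¹ᵁ U.1) :=
  haveI := HilbObsLib.isClosedImmersion_incl x A
  U.2.preimage _

/-- The affine open of `X` under `U`. -/
def down {A : ArtFun.Art k k} (U : (ArtFun.Art.XA x A).affineOpens) : X.affineOpens :=
  ⟨_, incl_preimage_affine x U⟩

theorem le_up_down {A : ArtFun.Art k k} (U : (ArtFun.Art.XA x A).affineOpens) :
    U.1 ≤ (up x A (down x U)).1 ∧ (up x A (down x U)).1 ≤ U.1 := by
  constructor <;> intro p hp <;> obtain ⟨q, rfl⟩ := HilbObsLib.surjective_incl x A p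
  · show pullback.fst x (ArtFun.Art.specOver A) (ArtFun.Art.XAincl x A q) ∈ ArtFun.Art.XAincl x A ⁻¹ᵁ U.1
    rw [← Scheme.Hom.comp_apply, ArtFun.Art.XAincl_fst]
    exact hp
  · change pullback.fst x (ArtFun.Art.specOver A) (ArtFun.Art.XAincl x A q) ∈ ArtFun.Art.XAincl x A ⁻¹ᵁ U.1 at hp
    rw [← Scheme.Hom.comp_apply, ArtFun.Art.XAincl_fst] at hp
    exact hp

theorem down_le {U : (ArtFun.Art.XA x (D k)).affineOpens} {V : X.affineOpens} (h : U.1 ≤ (up x (D k) V).1) :
    (down x U).1 ≤ V.1 := fun q hq => by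
  have := h hq
  change pullback.fst x (ArtFun.Art.specOver (D k)) (ArtFun.Art.XAincl x (D k) q) ∈ V.1 at this
  rw [← Scheme.Hom.comp_apply, ArtFun.Art.XAincl_fst] at this
  exact this

/-- The ideals. -/
def ideal (U : (ArtFun.Art.XA x (D k)).affineOpens) : Ideal Γ(ArtFun.Art.XA x (D k), U.1) :=
  (K x ψ (down x U)).map ((ArtFun.Art.XA x (D k)).presheaf.map (homOfLE (le_up_down x U).1).op).hom

theorem map_res_map {U₁ U₂ U₃ : (ArtFun.Art.XA x (D k)).Opens} (h₁₂ : U₂ ≤ U₁) (h₂₃ : U₃ ≤ U₂)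
    (J : Ideal Γ(ArtFun.Art.XA x (D k), U₁)) :
    (J.map ((ArtFun.Art.XA x (D k)).presheaf.map (homOfLE h₁₂).op).hom).map
        ((ArtFun.Art.XA x (D k)).presheaf.map (homOfLE h₂₃).op).hom =
      J.map ((ArtFun.Art.XA x (D k)).presheaf.map (homOfLE (h₂₃.trans h₁₂)).op).hom := by
  rw [Ideal.map_map]
  congr 1
  rw [← CommRingCat.hom_comp, ← Functor.map_comp]
  rfl

theorem ideal_eq {U : (ArtFun.Art.XA x (D k)).affineOpens} {V : X.affineOpens} (h : U.1 ≤ (up x (D k) V).1) :
    ideal x ψ U = (K x ψ V).map ((ArtFun.Art.XA x (D k)).presheaf.map (homOfLE h).op).hom := by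
  rw [ideal, ← map_K x ψ (down_le x h)]
  exact map_res_map x _ _ _

theorem ideal_up (V : X.affineOpens) : ideal x ψ (up x (D k) V) = K x ψ V := by
  rw [ideal_eq x ψ (U := up x (D k) V) (V := V) le_rfl,
    show (homOfLE (le_refl (up x (D k) V).1)).op = 𝟙 _ from Subsingleton.elim _ _, CategoryTheory.Functor.map_id]
  exact Ideal.map_id _

/-- The ideal sheaf of the deformation of `ψ`. -/
def sheaf : (ArtFun.Art.XA x (D k)).IdealSheafData where
  ideal := ideal x ψ
  map_ideal_basicOpen U f := by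
    rw [ideal]
    refine (map_res_map x _ _ _).trans ?_
    exact (ideal_eq x ψ (U := (ArtFun.Art.XA x (D k)).affineBasicOpen f) (V := down x U)
      (((ArtFun.Art.XA x (D k)).basicOpen_le f).trans (le_up_down x U).1)).symm

theorem sheaf_ideal (V : X.affineOpens) : (sheaf x ψ).ideal (up x (D k) V) = K x ψ V := ideal_up x ψ V

theorem sheaf_fibre : (sheaf x ψ).comap (ArtFun.Art.XAincl x (D k)) = I₀ := by
  refine Scheme.IdealSheafData.ext_of_iSup_eq_top (fun V : X.affineOpens => V) ?_ fun V => ?_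
  · refine eq_top_iff.2 fun p _ => ?_
    obtain ⟨W, hW, hp⟩ := QCohLib.exists_affine_nhd p
    exact Opens.mem_iSup.2 ⟨⟨W, hW⟩, hp⟩
  · rw [← map_red_ideal, sheaf_ideal]
    refine le_antisymm (Ideal.map_le_iff_le_comap.2 ?_) fun a ha => ?_
    · rintro p ⟨m, b, rfl, -⟩
      rw [Ideal.mem_comap, red_rep (x := x)]
      exact val_mem V m
    · obtain ⟨m, rfl⟩ := exists_val V a ha
      obtain ⟨b, hb⟩ := qv_surjective V (ψ.app V.1 m)
      rw [← red_rep (x := x) V (val I₀ V.1 m) b]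
      exact Ideal.mem_map_of_mem _ (show _ ∈ K x ψ V from ⟨m, b, rfl, hb.symm⟩)

theorem sheaf_flat : ArtFun.FlatOver X x (D k) (sheaf x ψ) := by
  refine (HilbObsLib.flat_subscheme_iff (R := CommRingCat.of (D k)) (sheaf x ψ) (ArtFun.Art.XApr x (D k))).2
    fun U => ?_
  obtain ⟨U, hU⟩ := U
  have hUV : U = (up x (D k) (down x ⟨U, hU⟩)).1 := le_antisymm (le_up_down x ⟨U, hU⟩).1 (le_up_down x ⟨U, hU⟩).2
  generalize hV : down x ⟨U, hU⟩ = V at hUV
  subst hUV
  letI := (sB x (up x (D k) V).1).toAlgebra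
  haveI := HilbObsLib.flat_affine x (B := D k) (up x (D k) V).2
  refine RingHom.flat_algebraMap_iff.2 (HilbObsLib.flat_quotient_of_inf_le _ ?_)
  show _ ⊓ (sheaf x ψ).ideal (up x (D k) V) ≤ _ * (sheaf x ψ).ideal (up x (D k) V)
  rw [sheaf_ideal]
  rintro p ⟨hpm, m, b, rfl, hb⟩
  have h0 : red x (D k) V (emb x (D k) V (val I₀ V.1 m) + E x V * emb x (D k) V b) = 0 :=
    RingHom.mem_ker.1 ((ker_red x (D k) V).ge hpm)
  rw [red_rep (x := x)] at h0
  rw [app_of_val_zero ψ h0, eq_comm, qv_eq_zero] at hb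
  obtain ⟨m', rfl⟩ := exists_val V b hb
  obtain ⟨b', hb'⟩ := qv_surjective V (ψ.app V.1 m')
  have h1 : E x V * emb x (D k) V (val I₀ V.1 m') =
      E x V * (emb x (D k) V (val I₀ V.1 m') + E x V * emb x (D k) V b') := by
    rw [mul_add, ← mul_assoc (E x V) (E x V), E_sq, zero_mul, add_zero]
  rw [h0, map_zero, zero_add, h1]
  exact Ideal.mul_mem_mul (Ideal.mem_map_of_mem _ (show eps ∈ maximalIdeal (D k) from
    max_dual.ge (Ideal.mem_span_singleton_self _))) ⟨m', b', rfl, hb'.symm⟩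

/-- The deformation of `ψ`. -/
def deform : (ArtFun.localHilb X x I₀).obj (D k) := ⟨sheaf x ψ, sheaf_flat x ψ, sheaf_fibre x ψ⟩

theorem theta_deform : theta (deform x ψ) = ψ := by
  haveI : Coh.IsQCoh (Coh.structureModule I₀.subscheme) := QCohLib.isQCoh_unit
  haveI : Coh.IsQCoh (ClSub.idealMod I₀) := SweepSix.ConormalSpec.isQCoh_idealMod I₀
  haveI : Coh.IsQCoh (ClSub.quotMod I₀) := QCohLib.isQCoh_pushforward _ _
  refine sub_eq_zero.1 (HilbObsLib.eq_zero_of_app _ fun p => ?_)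
  obtain ⟨W, hW, hp⟩ := QCohLib.exists_affine_nhd p
  refine ⟨W, hW, hp, fun m => ?_⟩
  let V : X.affineOpens := ⟨W, hW⟩
  obtain ⟨b, hb⟩ := qv_surjective V (ψ.app V.1 m)
  have hr : Rep x (deform x ψ).1 V (val I₀ V.1 m) b :=
    (sheaf_ideal x ψ V).ge ⟨m, b, rfl, hb.symm⟩
  show (theta (deform x ψ)).app V.1 m - ψ.app V.1 m = 0
  rw [theta_app hr, hb, sub_self]

theorem theta_bijective : Function.Bijective (theta (x := x) (I₀ := I₀)) :=
  ⟨theta_injective, fun ψ => ⟨deform x ψ, theta_deform x ψ⟩⟩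

end HilbGlueLib
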