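import Groth.Agent.HilbGlueLib.DualSurj
import Groth.Prelude.Def_ArtFun2

/-!
# The local Hilbert functor commutes with fibre products along surjections
-/

set_option autoImplicit false
set_option linter.style.haveILetI false
set_option linter.unusedSectionVars false
set_option backward.isDefEq.respectTransparency false
set_option backward.isDefEq.respectTransparency.types false
set_option maxHeartbeats 1000000
-- glue
universe u

open CategoryTheory CategoryTheory.Limits AlgebraicGeometry TopologicalSpace Opposite IsLocalRing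
open HilbObsLib (str sB)

noncomputable section

namespace HilbGlueLib

variable {k : Type u} [Field k] {X : Scheme.{u}} (x : X ⟶ ArtFun.Art.specPt k) {I₀ : X.IdealSheafData}
variable {B C : ArtFun.Art k k} (g : B ⟶ C)

theorem isAffineHom_map : IsAffineHom (ArtFun.Art.XAmap x g) :=
  MorphismProperty.of_isPullback (P := @IsAffineHom) (ArtFun.Art.isPullback_XAmap x g).flip inferInstance

theorem preimage_up (V : X.affineOpens) : ArtFun.Art.XAmap x g ⁻¹ᵁ (up x B V).1 = (up x C V).1 := by
  rw [up, up, ← Scheme.Hom.comp_preimage, ArtFun.Art.XAmap_fst]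

theorem mem_map_ideal (V : X.affineOpens) (I : (ArtFun.Art.XA x C).IdealSheafData)
    (p : Γ(ArtFun.Art.XA x B, (up x B V).1)) :
    p ∈ (I.map (ArtFun.Art.XAmap x g)).ideal (up x B V) ↔ gmap x g V p ∈ I.ideal (up x C V) := by
  haveI := isAffineHom_map x g
  rw [Scheme.IdealSheafData.ideal_map_of_isAffineHom, Ideal.mem_comap]
  let U' : (ArtFun.Art.XA x C).affineOpens := ⟨ArtFun.Art.XAmap x g ⁻¹ᵁ (up x B V).1, (up x B V).2.preimage _⟩
  have hle : (up x C V).1 ≤ U'.1 := (preimage_up x g V).ge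
  haveI : IsIso ((ArtFun.Art.XA x C).presheaf.map (homOfLE hle).op) := by
    rw [show (homOfLE hle).op = eqToHom (congrArg op (preimage_up x g V)) from Subsingleton.elim _ _]
    infer_instance
  have hbij := ConcreteCategory.bijective_of_isIso ((ArtFun.Art.XA x C).presheaf.map (homOfLE hle).op)
  rw [← I.map_ideal (U := up x C V) (V := U') hle, gmap, Scheme.Hom.appLE]
  refine ⟨fun h => Ideal.mem_map_of_mem _ h, fun h => ?_⟩
  obtain ⟨q, hq, he⟩ := (Ideal.mem_map_iff_of_surjective _ hbij.2).1 h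
  exact hbij.1 he ▸ hq

theorem gmap_sub_emb_mem (V : X.affineOpens) (q : Γ(ArtFun.Art.XA x C, (up x C V).1)) :
    q - gmap x g V (emb x B V (red x C V q)) ∈ (maximalIdeal C).map (sB x (up x C V).1) := by
  rw [gmap_emb]
  exact sub_emb_red_mem x C V q

/-- `Γ` over `C` is spanned by the image of `Γ` over `B`. -/
theorem mem_closure_range (V : X.affineOpens) (q : Γ(ArtFun.Art.XA x C, (up x C V).1)) :
    q ∈ AddSubgroup.closure {z | ∃ c p, z = sB x (up x C V).1 c * gmap x g V p} := by
  let P := Γ(ArtFun.Art.XA x C, (up x C V).1)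
  letI : Algebra C P := (sB x (up x C V).1).toAlgebra
  let M : Submodule C P := Submodule.span C (Set.range (gmap x g V))
  have h1 : (⊤ : Submodule C P) ≤ M ⊔ maximalIdeal C • (⊤ : Submodule C P) := fun y _ => by
    rw [← add_sub_cancel (gmap x g V (emb x B V (red x C V y))) y]
    refine Submodule.add_mem_sup (Submodule.subset_span ⟨_, rfl⟩) ?_
    rw [Ideal.smul_top_eq_map]
    exact gmap_sub_emb_mem x g V y
  obtain ⟨n, hn⟩ := LCIDefLib.maximalIdeal_isNilpotent (C := C)
  have key : ∀ j, (⊤ : Submodule C P) ≤ M ⊔ maximalIdeal C ^ j • (⊤ : Submodule C P) := by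
    intro j
    induction j with
    | zero => rw [pow_zero, Ideal.one_eq_top, Submodule.top_smul]; exact le_sup_right
    | succ j ih =>
      refine ih.trans (sup_le le_sup_left ((Submodule.smul_mono le_rfl h1).trans ?_))
      rw [Submodule.smul_sup, ← Submodule.mul_smul, ← pow_succ]
      exact sup_le_sup_right Submodule.smul_le_right _
  have hq := key n (Submodule.mem_top (x := q))
  rw [hn, Submodule.zero_eq_bot, Submodule.bot_smul, sup_bot_eq] at hq
  refine Submodule.closure_induction (p := fun y _ => y ∈ AddSubgroup.closure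
    {z | ∃ c p, z = sB x (up x C V).1 c * gmap x g V p}) ?_ ?_ ?_ hq
  · exact zero_mem _
  · exact fun a b _ _ => add_mem
  · rintro c _ ⟨p, rfl⟩
    exact AddSubgroup.subset_closure ⟨c, p, rfl⟩

/-- A basis over `B` stays independent over `C`. -/
theorem coeff_eq_zero (V : X.affineOpens) :
    letI := (sB x (up x B V).1).toAlgebra
    ∀ {ι : Type u} (e : Module.Basis ι B Γ(ArtFun.Art.XA x B, (up x B V).1))
      (p : Γ(ArtFun.Art.XA x B, (up x B V).1)), gmap x g V p = 0 → ∀ i, g.toAlgHom (e.repr p i) = 0 := by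
  letI := (sB x (up x B V).1).toAlgebra
  letI := (sB x (up x C V).1).toAlgebra
  intro ι e p hp i
  haveI := HilbObsLib.flat_affine x (B := C) (up x C V).2
  let f : (ι →₀ C) →ₗ[C] Γ(ArtFun.Art.XA x C, (up x C V).1) :=
    Finsupp.linearCombination C fun j => gmap x g V (e j)
  have hsum : ∀ c : ι →₀ C, f c = c.sum fun j a => sB x (up x C V).1 a * gmap x g V (e j) := fun c =>
    Finsupp.linearCombination_apply C c
  have hinj := (DefLib.splitInjective_of_injective_mod LCIDefLib.maximalIdeal_isNilpotent f fun c hc => ?_).1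
  swap
  · rw [Ideal.smul_top_eq_map] at hc
    have hred : red x C V (f c) = 0 := RingHom.mem_ker.1 ((ker_red x C V).ge hc)
    rw [hsum, map_finsuppSum] at hred
    simp only [map_mul, red_sB, red_gmap] at hred
    let c' : ι →₀ B := c.mapRange (fun a => algebraMap k B (C.res a)) (by rw [map_zero, map_zero])
    let q := Finsupp.linearCombination B e c'
    have hq : red x B V q = 0 := by
      rw [show q = c'.sum fun j a => sB x (up x B V).1 a * e j from Finsupp.linearCombination_apply B c',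
        map_finsuppSum, Finsupp.sum_mapRange_index (fun j => by rw [map_zero, zero_mul, map_zero])]
      refine Eq.trans (Finsupp.sum_congr fun j _ => ?_) hred
      rw [map_mul, red_sB, red_sB, AlgHom.commutes, Algebra.algebraMap_self, RingHom.id_apply]
    have hq' : q ∈ maximalIdeal B • (⊤ : Submodule B Γ(ArtFun.Art.XA x B, (up x B V).1)) := by
      rw [Ideal.smul_top_eq_map]
      exact (ker_red x B V).le hq
    have hcoef : ∀ j, c' j ∈ maximalIdeal B := fun j => by
      rw [show c' j = e.repr q j from (DFunLike.congr_fun (e.repr_linearCombination c') j).symm]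
      refine Submodule.smul_induction_on hq' (fun a ha y _ => ?_) fun a b ha hb => ?_
      · rw [map_smul, Finsupp.smul_apply, smul_eq_mul]
        exact Ideal.mul_mem_right _ _ ha
      · rw [map_add, Finsupp.add_apply]
        exact add_mem ha hb
    rw [← c.sum_single]
    refine Submodule.sum_mem _ fun j _ => ?_
    rw [← Finsupp.smul_single_one]
    refine Submodule.smul_mem_smul ?_ Submodule.mem_top
    rw [ArtFun.Art.mem_maximalIdeal_iff]
    have h := (ArtFun.Art.mem_maximalIdeal_iff B _).1 (hcoef j)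
    rwa [Finsupp.mapRange_apply, AlgHom.commutes, Algebra.algebraMap_self, RingHom.id_apply] at h
  have h0 : f ((e.repr p).mapRange g.toAlgHom (map_zero _)) = 0 := by
    rw [hsum, Finsupp.sum_mapRange_index (fun j => by rw [map_zero, zero_mul]), ← hp]
    conv_rhs => rw [← e.linearCombination_repr p, Finsupp.linearCombination_apply, map_finsuppSum]
    refine Finsupp.sum_congr fun j _ => ?_
    rw [Algebra.smul_def, map_mul]
    exact congrArg (· * _) (gmap_sB x g V _).symm
  have := DFunLike.congr_fun (hinj (h0.trans (map_zero f).symm)) i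
  rwa [Finsupp.mapRange_apply] at this

theorem mem_of_mem_mul {R : Type u} [CommRing R] (I J : Ideal R) {w : R} (hw : w ∈ I * J) : w ∈ I ∧ w ∈ J :=
  ⟨Submodule.mul_induction_on hw (fun a ha b _ => I.mul_mem_right b ha) fun _ _ ha hb => I.add_mem ha hb,
    Submodule.mul_induction_on hw (fun a _ b hb => J.mul_mem_left a hb) fun _ _ ha hb => J.add_mem ha hb⟩

section Square

variable {B A A' A'' : ArtFun.Art k k} {p' : B ⟶ A'} {p'' : B ⟶ A''} {f' : A' ⟶ A} {f'' : A'' ⟶ A}
  (h : ArtFun.Art.IsFibreProd p' p'' f' f'') (hf : Function.Surjective f'')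

include h hf

theorem surjective_p' : Function.Surjective p'.toAlgHom := fun a' => by
  obtain ⟨a'', ha⟩ := hf (f' a')
  obtain ⟨b, hb, -⟩ := h.surj a' a'' ha.symm
  exact ⟨b, hb⟩

theorem joint_injective (V : X.affineOpens) {p : Γ(ArtFun.Art.XA x B, (up x B V).1)}
    (h1 : gmap x p' V p = 0) (h2 : gmap x p'' V p = 0) : p = 0 := by
  letI := (sB x (up x B V).1).toAlgebra
  haveI := HilbObsLib.flat_affine x (B := B) (up x B V).2
  haveI := DefLib.free_of_flat_of_nilpotent (C := B) (M := Γ(ArtFun.Art.XA x B, (up x B V).1))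
    LCIDefLib.maximalIdeal_isNilpotent
  let e := Module.Free.chooseBasis B Γ(ArtFun.Art.XA x B, (up x B V).1)
  refine e.repr.map_eq_zero_iff.1 (Finsupp.ext fun i => h.inj _ _ ?_ ?_)
  · exact (coeff_eq_zero x p' V e p h1 i).trans (map_zero p'.toAlgHom).symm
  · exact (coeff_eq_zero x p'' V e p h2 i).trans (map_zero p''.toAlgHom).symm

theorem ker_gmap_p' (V : X.affineOpens) {p : Γ(ArtFun.Art.XA x B, (up x B V).1)} (h1 : gmap x p' V p = 0) :
    p ∈ (RingHom.ker p'.toAlgHom.toRingHom).map (sB x (up x B V).1) := by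
  letI := (sB x (up x B V).1).toAlgebra
  haveI := HilbObsLib.flat_affine x (B := B) (up x B V).2
  haveI := DefLib.free_of_flat_of_nilpotent (C := B) (M := Γ(ArtFun.Art.XA x B, (up x B V).1))
    LCIDefLib.maximalIdeal_isNilpotent
  let e := Module.Free.chooseBasis B Γ(ArtFun.Art.XA x B, (up x B V).1)
  rw [← e.linearCombination_repr p, Finsupp.linearCombination_apply]
  refine Submodule.sum_mem _ fun i _ => ?_
  show e.repr p i • e i ∈ _
  rw [Algebra.smul_def]
  exact Ideal.mul_mem_right _ _ (Ideal.mem_map_of_mem _ (RingHom.mem_ker.2 (coeff_eq_zero x p' V e p h1 i)))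

theorem gmap_gmap (V : X.affineOpens) (p : Γ(ArtFun.Art.XA x B, (up x B V).1)) :
    gmap x f' V (gmap x p' V p) = gmap x f'' V (gmap x p'' V p) := by
  have key : ∀ {P Q R : ArtFun.Art k k} (a : P ⟶ Q) (b : Q ⟶ R) (q),
      gmap x b V (gmap x a V q) = gmap x (a ≫ b) V q := fun a b q => by
    have e : (ArtFun.Art.XAmap x a).appLE (up x _ V).1 (up x _ V).1 (map_up x a V) ≫
        (ArtFun.Art.XAmap x b).appLE (up x _ V).1 (up x _ V).1 (map_up x b V) =
          (ArtFun.Art.XAmap x (a ≫ b)).appLE (up x _ V).1 (up x _ V).1 (map_up x (a ≫ b) V) := by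
      rw [Scheme.Hom.appLE_comp_appLE]
      simp only [ArtFun.Art.XAmap_comp]
    exact congr($(e) q)
  rw [key, key, h.w]

/-- `(ker f'')·K` over `A''` comes from `(ker p')·K` over `B`. -/
theorem exists_preimage_ker (V : X.affineOpens) (K : Ideal Γ(ArtFun.Art.XA x B, (up x B V).1))
    {z : Γ(ArtFun.Art.XA x A'', (up x A'' V).1)}
    (hz : z ∈ (RingHom.ker f''.toAlgHom.toRingHom).map (sB x (up x A'' V).1) * K.map (gmap x p'' V)) :
    ∃ w ∈ (RingHom.ker p'.toAlgHom.toRingHom).map (sB x (up x B V).1) * K, gmap x p'' V w = z := by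
  let J := (RingHom.ker p'.toAlgHom.toRingHom).map (sB x (up x B V).1) * K
  let S : AddSubgroup Γ(ArtFun.Art.XA x A'', (up x A'' V).1) :=
    (J.toAddSubgroup).map (gmap x p'' V).toAddMonoidHom
  suffices z ∈ S from this
  have h1 : ∀ a ∈ RingHom.ker f''.toAlgHom.toRingHom, ∀ r, ∀ c ∈ K,
      sB x (up x A'' V).1 a * (r * gmap x p'' V c) ∈ S := by
    intro a ha r c hc
    induction mem_closure_range x p'' V r using AddSubgroup.closure_induction with
    | mem r hr =>
      obtain ⟨d, q, rfl⟩ := hr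
      have hfd : f''.toAlgHom (a * d) = 0 := by
        rw [map_mul, show f''.toAlgHom a = 0 from RingHom.mem_ker.1 ha, zero_mul]
      obtain ⟨b, hb', hb''⟩ := h.surj 0 (a * d) ((map_zero f'.toAlgHom).trans hfd.symm)
      refine ⟨sB x (up x B V).1 b * (q * c),
        Ideal.mul_mem_mul (Ideal.mem_map_of_mem _ (RingHom.mem_ker.2 hb')) (Ideal.mul_mem_left _ q hc), ?_⟩
      show gmap x p'' V _ = _
      rw [map_mul, map_mul, gmap_sB, show p''.toAlgHom b = a * d from hb'', map_mul]
      ring
    | zero => rw [zero_mul, mul_zero]; exact zero_mem _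
    | add y z _ _ hy hz => rw [add_mul, mul_add]; exact add_mem hy hz
    | neg y _ hy => rw [neg_mul, mul_neg]; exact neg_mem hy
  refine Submodule.mul_induction_on hz (fun u hu v hv => ?_) fun a b ha hb => add_mem ha hb
  suffices H : ∀ r, r * u * v ∈ S by simpa using H 1
  clear hz
  induction hu using Submodule.span_induction with
  | mem u hu =>
    obtain ⟨a, ha, rfl⟩ := hu
    induction hv using Submodule.span_induction with
    | mem v hv =>
      obtain ⟨c, hc, rfl⟩ := hv
      intro r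
      have := h1 a ha r c hc
      convert this using 1; ring
    | zero => intro r; rw [mul_zero]; exact zero_mem _
    | add y z _ _ hy hz => intro r; rw [mul_add]; exact add_mem (hy r) (hz r)
    | smul s y _ hy =>
      intro r
      have := hy (r * s)
      convert this using 1; rw [smul_eq_mul]; ring
  | zero => intro r; rw [mul_zero, zero_mul]; exact zero_mem _
  | add y z _ _ hy hz => intro r; rw [mul_add, add_mul]; exact add_mem (hy r) (hz r)
  | smul s y _ hy =>
    intro r
    have := hy (r * s)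
    convert this using 1; rw [smul_eq_mul]; ring

/-- An element of `(ker p')·K` dies over `A'` and lies in `K`. -/
theorem kill_p' (V : X.affineOpens) (K : Ideal Γ(ArtFun.Art.XA x B, (up x B V).1))
    {w : Γ(ArtFun.Art.XA x B, (up x B V).1)}
    (hw : w ∈ (RingHom.ker p'.toAlgHom.toRingHom).map (sB x (up x B V).1) * K) :
    gmap x p' V w = 0 ∧ w ∈ K := by
  obtain ⟨hw1, hw2⟩ := mem_of_mem_mul _ K hw
  refine ⟨RingHom.mem_ker.1 (Ideal.map_le_iff_le_comap.2 (fun b hb => ?_) hw1), hw2⟩
  rw [Ideal.mem_comap, RingHom.mem_ker, gmap_sB, show p'.toAlgHom b = 0 from RingHom.mem_ker.1 hb, map_zero]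

omit h in
theorem ker_gmap_f'' (V : X.affineOpens) {z : Γ(ArtFun.Art.XA x A'', (up x A'' V).1)}
    (hz : gmap x f'' V z = 0) : z ∈ (RingHom.ker f''.toAlgHom.toRingHom).map (sB x (up x A'' V).1) := by
  letI := (sB x (up x A'' V).1).toAlgebra
  haveI := HilbObsLib.flat_affine x (B := A'') (up x A'' V).2
  haveI := DefLib.free_of_flat_of_nilpotent (C := A'') (M := Γ(ArtFun.Art.XA x A'', (up x A'' V).1))
    LCIDefLib.maximalIdeal_isNilpotent
  let e := Module.Free.chooseBasis A'' Γ(ArtFun.Art.XA x A'', (up x A'' V).1)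
  rw [← e.linearCombination_repr z, Finsupp.linearCombination_apply]
  refine Submodule.sum_mem _ fun i _ => ?_
  show e.repr z i • e i ∈ _
  rw [Algebra.smul_def]
  exact Ideal.mul_mem_right _ _ (Ideal.mem_map_of_mem _ (RingHom.mem_ker.2 (coeff_eq_zero x f'' V e z hz i)))

omit h in
theorem gmap_surjective {P Q : ArtFun.Art k k} (a : P ⟶ Q) (ha : Function.Surjective a.toAlgHom)
    (V : X.affineOpens) : Function.Surjective (gmap x a V) := fun q => by
  induction mem_closure_range x a V q using AddSubgroup.closure_induction with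
  | mem z hz =>
    obtain ⟨c, p, rfl⟩ := hz
    obtain ⟨b, rfl⟩ := ha c
    exact ⟨sB x (up x P V).1 b * p, by rw [map_mul, gmap_sB]⟩
  | zero => exact ⟨0, map_zero _⟩
  | add y z _ _ hy hz =>
    obtain ⟨a₁, rfl⟩ := hy
    obtain ⟨a₂, rfl⟩ := hz
    exact ⟨a₁ + a₂, map_add _ _ _⟩
  | neg y _ hy =>
    obtain ⟨a₁, rfl⟩ := hy
    exact ⟨-a₁, map_neg _ _⟩

variable (I' : (ArtFun.localHilb X x I₀).obj A') (I'' : (ArtFun.localHilb X x I₀).obj A'')
  (hI : (ArtFun.localHilb X x I₀).map f' I' = (ArtFun.localHilb X x I₀).map f'' I'')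

include hI

omit h hf in
theorem map_eq_map (V : X.affineOpens) :
    (I'.1.ideal (up x A' V)).map (gmap x f' V) = (I''.1.ideal (up x A'' V)).map (gmap x f'' V) := by
  rw [map_gmap_ideal, map_gmap_ideal]
  exact congrArg (fun I => Scheme.IdealSheafData.ideal I (up x A V)) (congrArg Subtype.val hI)

omit hI in
/-- The glued ideal on an affine open. -/
theorem mem_glue (V : X.affineOpens) (p : Γ(ArtFun.Art.XA x B, (up x B V).1)) :
    p ∈ (I'.1.map (ArtFun.Art.XAmap x p') ⊓ I''.1.map (ArtFun.Art.XAmap x p'')).ideal (up x B V) ↔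
      gmap x p' V p ∈ I'.1.ideal (up x A' V) ∧ gmap x p'' V p ∈ I''.1.ideal (up x A'' V) := by
  rw [Scheme.IdealSheafData.ideal_inf, Pi.inf_apply, Submodule.mem_inf, mem_map_ideal, mem_map_ideal]

theorem glue_map' (V : X.affineOpens) :
    ((I'.1.map (ArtFun.Art.XAmap x p') ⊓ I''.1.map (ArtFun.Art.XAmap x p'')).ideal (up x B V)).map (gmap x p' V) =
      I'.1.ideal (up x A' V) := by
  refine le_antisymm (Ideal.map_le_iff_le_comap.2 fun p hp => ((mem_glue x h hf I' I'' V p).1 hp).1) fun i hi => ?_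
  obtain ⟨p, rfl⟩ := gmap_surjective x hf p' (surjective_p' h hf) V i
  have h1 : gmap x f'' V (gmap x p'' V p) ∈ (I''.1.ideal (up x A'' V)).map (gmap x f'' V) := by
    rw [← gmap_gmap x h hf, ← map_eq_map x I' I'' hI V]
    exact Ideal.mem_map_of_mem _ hi
  obtain ⟨i'', hi'', he⟩ := (Ideal.mem_map_iff_of_surjective _ (gmap_surjective x hf f'' hf V)).1 h1
  have h2 : gmap x p'' V p - i'' ∈ (RingHom.ker f''.toAlgHom.toRingHom).map (sB x (up x A'' V).1) *
      (⊤ : Ideal Γ(ArtFun.Art.XA x B, (up x B V).1)).map (gmap x p'' V) := by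
    rw [Ideal.map_top, Ideal.mul_top]
    exact ker_gmap_f'' x hf V (by rw [map_sub, he, sub_self])
  obtain ⟨w, hw, hwe⟩ := exists_preimage_ker x h hf V ⊤ h2
  have hw' : gmap x p' V w = 0 := by
    rw [Ideal.mul_top] at hw
    refine RingHom.mem_ker.1 (Ideal.map_le_iff_le_comap.2 (fun b hb => ?_) hw)
    rw [Ideal.mem_comap, RingHom.mem_ker, gmap_sB, show p'.toAlgHom b = 0 from RingHom.mem_ker.1 hb, map_zero]
  refine (Ideal.mem_map_iff_of_surjective _ (gmap_surjective x hf p' (surjective_p' h hf) V)).2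
    ⟨p - w, (mem_glue x h hf I' I'' V _).2 ⟨?_, ?_⟩, by rw [map_sub, hw', sub_zero]⟩
  · rw [map_sub, hw', sub_zero]; exact hi
  · rw [map_sub, hwe, sub_sub_cancel]; exact hi''

theorem glue_map'' (V : X.affineOpens) :
    ((I'.1.map (ArtFun.Art.XAmap x p') ⊓ I''.1.map (ArtFun.Art.XAmap x p'')).ideal (up x B V)).map (gmap x p'' V) =
      I''.1.ideal (up x A'' V) := by
  set K := (I'.1.map (ArtFun.Art.XAmap x p') ⊓ I''.1.map (ArtFun.Art.XAmap x p'')).ideal (up x B V) with hK
  have hle : K.map (gmap x p'' V) ≤ I''.1.ideal (up x A'' V) :=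
    Ideal.map_le_iff_le_comap.2 fun p hp => ((mem_glue x h hf I' I'' V p).1 hp).2
  refine le_antisymm hle ?_
  letI := (sB x (up x A'' V).1).toAlgebra
  haveI := HilbObsLib.flat_quot_affine x I''.1 I''.2.1 (up x A'' V)
  refine LCIDefLib.le_of_le_sup_pow (N := (RingHom.ker f''.toAlgHom.toRingHom).map (sB x (up x A'' V).1)) ?_ ?_
  · obtain ⟨n, hn⟩ := LCIDefLib.nilpotent_map (C := A'') Γ(ArtFun.Art.XA x A'', (up x A'' V).1)
    refine ⟨n, eq_bot_iff.2 ((Ideal.pow_right_mono (Ideal.map_mono fun c hc => ?_) n).trans hn.le)⟩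
    exact HilbObsLib.mem_max_of_ker f'' (RingHom.mem_ker.1 hc)
  intro i hi
  have h1 : gmap x f'' V i ∈ (K.map (gmap x p'' V)).map (gmap x f'' V) := by
    rw [Ideal.map_map, show (gmap x f'' V).comp (gmap x p'' V) = (gmap x f' V).comp (gmap x p' V) from
      RingHom.ext fun q => (gmap_gmap x h hf V q).symm, ← Ideal.map_map, hK, glue_map' x h hf I' I'' hI,
      map_eq_map x I' I'' hI V]
    exact Ideal.mem_map_of_mem _ hi
  obtain ⟨z, hz, he⟩ := (Ideal.mem_map_iff_of_surjective _ (gmap_surjective x hf f'' hf V)).1 h1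
  rw [← add_sub_cancel z i]
  refine Submodule.add_mem_sup hz (LCIDefLib.inf_map_le_mul (I''.1.ideal (up x A'' V)) _ ⟨sub_mem hi (hle hz), ?_⟩)
  exact ker_gmap_f'' x hf V (by rw [map_sub, he, sub_self])

/-- Gluing on an affine open: `K` is determined by its two restrictions. -/
theorem glue_unique (V : X.affineOpens) {K₀ : Ideal Γ(ArtFun.Art.XA x B, (up x B V).1)}
    (h' : K₀.map (gmap x p' V) = I'.1.ideal (up x A' V))
    (h'' : K₀.map (gmap x p'' V) = I''.1.ideal (up x A'' V)) :
    K₀ = (I'.1.map (ArtFun.Art.XAmap x p') ⊓ I''.1.map (ArtFun.Art.XAmap x p'')).ideal (up x B V) := by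
  refine le_antisymm (fun p hp => (mem_glue x h hf I' I'' V p).2
    ⟨h'.le (Ideal.mem_map_of_mem _ hp), h''.le (Ideal.mem_map_of_mem _ hp)⟩) fun p hp => ?_
  obtain ⟨hp', hp''⟩ := (mem_glue x h hf I' I'' V p).1 hp
  rw [← h'] at hp'
  obtain ⟨q, hq, he⟩ := (Ideal.mem_map_iff_of_surjective _ (gmap_surjective x hf p' (surjective_p' h hf) V)).1 hp'
  letI := (sB x (up x A'' V).1).toAlgebra
  haveI := HilbObsLib.flat_quot_affine x I''.1 I''.2.1 (up x A'' V)
  have h1 : gmap x p'' V (p - q) ∈ (RingHom.ker f''.toAlgHom.toRingHom).map (sB x (up x A'' V).1) *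
      K₀.map (gmap x p'' V) := by
    rw [h'']
    refine LCIDefLib.inf_map_le_mul (I''.1.ideal (up x A'' V)) _ ⟨?_, ?_⟩
    · rw [map_sub]
      exact sub_mem hp'' (h''.le (Ideal.mem_map_of_mem _ hq))
    · refine ker_gmap_f'' x hf V ?_
      rw [← gmap_gmap x h hf, map_sub (gmap x p' V), he, sub_self, map_zero]
  obtain ⟨w, hw, hwe⟩ := exists_preimage_ker x h hf V K₀ h1
  obtain ⟨hw', hwK⟩ := kill_p' x h hf V _ hw
  have h2 : p - q - w = 0 := joint_injective x h hf V
    (by rw [map_sub, map_sub, he, sub_self, hw', sub_zero]) (by rw [map_sub (gmap x p'' V), hwe, sub_self])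
  rw [sub_eq_zero, sub_eq_iff_eq_add] at h2
  rw [h2]
  exact add_mem hwK hq

theorem glue_flat (V : X.affineOpens) :
    (maximalIdeal B).map (sB x (up x B V).1) ⊓
        (I'.1.map (ArtFun.Art.XAmap x p') ⊓ I''.1.map (ArtFun.Art.XAmap x p'')).ideal (up x B V) ≤
      (maximalIdeal B).map (sB x (up x B V).1) *
        (I'.1.map (ArtFun.Art.XAmap x p') ⊓ I''.1.map (ArtFun.Art.XAmap x p'')).ideal (up x B V) := by
  rintro p ⟨hpm, hp⟩
  obtain ⟨hp', hp''⟩ := (mem_glue x h hf I' I'' V p).1 hp
  set K := (I'.1.map (ArtFun.Art.XAmap x p') ⊓ I''.1.map (ArtFun.Art.XAmap x p'')).ideal (up x B V) with hK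
  letI := (sB x (up x A' V).1).toAlgebra
  haveI := HilbObsLib.flat_quot_affine x I'.1 I'.2.1 (up x A' V)
  have hm : ((maximalIdeal B).map (sB x (up x B V).1)).map (gmap x p' V) =
      (maximalIdeal A').map (sB x (up x A' V).1) := by
    rw [Ideal.map_map, show (gmap x p' V).comp (sB x (up x B V).1) = (sB x (up x A' V).1).comp p'.toAlgHom.toRingHom
      from RingHom.ext fun c => gmap_sB x p' V c, ← Ideal.map_map]
    refine congrArg (Ideal.map _) (le_antisymm (Ideal.map_le_iff_le_comap.2 fun c hc => ?_) fun c hc => ?_)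
    · rw [Ideal.mem_comap, ArtFun.Art.mem_maximalIdeal_iff]
      exact (ArtFun.Art.res_app p' c).trans ((ArtFun.Art.mem_maximalIdeal_iff B c).1 hc)
    · obtain ⟨b, rfl⟩ := surjective_p' h hf c
      refine Ideal.mem_map_of_mem p'.toAlgHom.toRingHom ?_
      rw [ArtFun.Art.mem_maximalIdeal_iff, ← ArtFun.Art.res_app p' b]
      exact (ArtFun.Art.mem_maximalIdeal_iff A' _).1 hc
  have h1 : gmap x p' V p ∈ ((maximalIdeal B).map (sB x (up x B V).1) * K).map (gmap x p' V) := by
    rw [Ideal.map_mul, hm, hK, glue_map' x h hf I' I'' hI]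
    exact LCIDefLib.inf_map_le_mul (I'.1.ideal (up x A' V)) _ ⟨hp', hm.le (Ideal.mem_map_of_mem _ hpm)⟩
  obtain ⟨u, hu, he⟩ := (Ideal.mem_map_iff_of_surjective _ (gmap_surjective x hf p' (surjective_p' h hf) V)).1 h1
  letI := (sB x (up x A'' V).1).toAlgebra
  haveI := HilbObsLib.flat_quot_affine x I''.1 I''.2.1 (up x A'' V)
  have huK : u ∈ K := (mem_of_mem_mul _ K hu).2
  have h2 : gmap x p'' V (p - u) ∈ (RingHom.ker f''.toAlgHom.toRingHom).map (sB x (up x A'' V).1) *
      K.map (gmap x p'' V) := by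
    rw [hK, glue_map'' x h hf I' I'' hI]
    refine LCIDefLib.inf_map_le_mul (I''.1.ideal (up x A'' V)) _ ⟨?_, ?_⟩
    · rw [map_sub]
      exact sub_mem hp'' ((mem_glue x h hf I' I'' V u).1 huK).2
    · refine ker_gmap_f'' x hf V ?_
      rw [← gmap_gmap x h hf, map_sub (gmap x p' V), he, sub_self, map_zero]
  obtain ⟨w, hw, hwe⟩ := exists_preimage_ker x h hf V K h2
  obtain ⟨hw', hwK⟩ := kill_p' x h hf V _ hw
  have h3 : p - u - w = 0 := joint_injective x h hf V
    (by rw [map_sub, map_sub, he, sub_self, hw', sub_zero]) (by rw [map_sub (gmap x p'' V), hwe, sub_self])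
  rw [sub_eq_zero, sub_eq_iff_eq_add] at h3
  rw [h3]
  exact add_mem (Ideal.mul_mono (Ideal.map_mono fun c hc => HilbObsLib.mem_max_of_ker p' (RingHom.mem_ker.1 hc))
    le_rfl hw) hu

end Square

end HilbGlueLib
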