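import Groth.Agent.HilbGlueLib.DualSurj
import Groth.Prelude.Def_KLin

/-!
# Linearity of the first order invariant, and the normal sheaf
-/

set_option autoImplicit false
set_option linter.style.haveILetI false
set_option linter.unusedSectionVars false
set_option backward.isDefEq.respectTransparency false
set_option backward.isDefEq.respectTransparency.types false
set_option maxHeartbeats 1000000
universe u

open CategoryTheory CategoryTheory.Limits AlgebraicGeometry TopologicalSpace Opposite IsLocalRing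
open HilbObsLib (str sB)

noncomputable section

namespace HilbGlueLib

variable {k : Type u} [Field k] {X : Scheme.{u}} [X.Over (Spec (CommRingCat.of k))]
  {I₀ : X.IdealSheafData}

local notation "xX" => (X ↘ Spec (CommRingCat.of k))

theorem hom_ext_affine {φ ψ : ClSub.idealMod I₀ ⟶ ClSub.quotMod I₀}
    (h : ∀ (V : X.affineOpens) m, φ.app V.1 m = ψ.app V.1 m) : φ = ψ := by
  haveI : Coh.IsQCoh (Coh.structureModule I₀.subscheme) := QCohLib.isQCoh_unit
  haveI : Coh.IsQCoh (ClSub.idealMod I₀) := SweepSix.ConormalSpec.isQCoh_idealMod I₀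
  haveI : Coh.IsQCoh (ClSub.quotMod I₀) := QCohLib.isQCoh_pushforward _ _
  refine sub_eq_zero.1 (HilbObsLib.eq_zero_of_app _ fun p => ?_)
  obtain ⟨W, hW, hp⟩ := QCohLib.exists_affine_nhd p
  exact ⟨W, hW, hp, fun m => sub_eq_zero.2 (h ⟨W, hW⟩ m)⟩

theorem scale_eps (c : k) :
    (ArtFun.Art.scale (Λ := k) c).toAlgHom (eps : D k) = algebraMap k (D k) c * eps := by
  refine TrivSqZeroExt.ext ?_ ?_
  · exact (mul_zero _).symm
  · show c • (1 : k) = _
    refine Eq.trans ?_ (TrivSqZeroExt.snd_mul (R := k) (M := k) (algebraMap k (DualNumber k) c) DualNumber.eps).symm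
    show c • (1 : k) = c • (1 : k) + MulOpposite.op (0 : k) • (0 : k)
    rw [smul_zero, add_zero]

theorem theta_scale (I : (ArtFun.localHilb X xX I₀).obj (D k)) (c : k) :
    theta ((ArtFun.localHilb X xX I₀).map (ArtFun.Art.scale c) I) = c • theta I := by
  refine hom_ext_affine fun V m => ?_
  obtain ⟨b, hb⟩ := exists_rep (I := I) (val I₀ V.1 m) (val_mem V m)
  have h2 : Rep xX ((ArtFun.localHilb X xX I₀).map (ArtFun.Art.scale c) I).1 V (val I₀ V.1 m)
      (kst xX V.1 c * b) := by
    have h1 : gmap xX (ArtFun.Art.scale c) V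
        (emb xX (D k) V (val I₀ V.1 m) + E xX V * emb xX (D k) V b) ∈
          ((ArtFun.localHilb X xX I₀).map (ArtFun.Art.scale c) I).1.ideal (up xX (D k) V) := by
      show _ ∈ (I.1.comap (ArtFun.Art.XAmap xX (ArtFun.Art.scale c))).ideal _
      rw [← map_gmap_ideal]
      exact Ideal.mem_map_of_mem _ hb
    have hE : gmap xX (ArtFun.Art.scale c) V (E xX V) = emb xX (D k) V (kst xX V.1 c) * E xX V := by
      rw [E, gmap_sB, scale_eps, map_mul, sB_algebraMap]
    simp only [map_add, map_mul, gmap_emb, hE] at h1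
    unfold Rep
    convert h1 using 1
    simp only [map_mul]
    ring
  rw [theta_app h2, qv_mul, KLin.smul_app_apply, theta_app hb]
  rfl

theorem fst_zero_of_mem {c : ArtFun.Art.dual2 k k} (hc : c ∈ maximalIdeal (ArtFun.Art.dual2 k k)) :
    TrivSqZeroExt.fst (R := k) (M := k × k) c = 0 :=
  (ArtFun.Art.mem_maximalIdeal_iff _ c).1 hc

theorem plus_apply {c : ArtFun.Art.dual2 k k} (hc : c ∈ maximalIdeal (ArtFun.Art.dual2 k k)) :
    (ArtFun.Art.plus (Λ := k) (k := k)).toAlgHom c =
      (ArtFun.Art.pr₁ (Λ := k) (k := k)).toAlgHom c + (ArtFun.Art.pr₂ (Λ := k) (k := k)).toAlgHom c := by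
  refine TrivSqZeroExt.ext ?_ rfl
  show TrivSqZeroExt.fst (R := k) (M := k × k) c =
    TrivSqZeroExt.fst (R := k) (M := k × k) c + TrivSqZeroExt.fst (R := k) (M := k × k) c
  rw [fst_zero_of_mem hc, add_zero]

theorem theta_plus (z : (ArtFun.localHilb X xX I₀).obj (ArtFun.Art.dual2 k k)) :
    theta ((ArtFun.localHilb X xX I₀).map ArtFun.Art.plus z) =
      theta ((ArtFun.localHilb X xX I₀).map ArtFun.Art.pr₁ z) +
        theta ((ArtFun.localHilb X xX I₀).map ArtFun.Art.pr₂ z) := by
  refine hom_ext_affine fun V m => ?_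
  have hm := val_mem (I₀ := I₀) V m
  have hI : I₀.ideal V = (z.1.ideal (up xX _ V)).map (red xX (ArtFun.Art.dual2 k k) V) :=
    ((map_red_ideal xX _ V z.1).trans (by rw [z.2.2])).symm
  rw [hI, Ideal.mem_map_iff_of_surjective _ (red_surjective xX _ V)] at hm
  obtain ⟨p, hp, hpa⟩ := hm
  have hmem : ∀ g : ArtFun.Art.dual2 k k ⟶ D k,
      gmap xX g V p ∈ ((ArtFun.localHilb X xX I₀).map g z).1.ideal (up xX (D k) V) := fun g => by
    show _ ∈ (z.1.comap (ArtFun.Art.XAmap xX g)).ideal _
    rw [← map_gmap_ideal]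
    exact Ideal.mem_map_of_mem _ hp
  have hq := sub_emb_red_mem xX (ArtFun.Art.dual2 k k) V p
  rw [hpa] at hq
  have hadd : ∀ q ∈ (maximalIdeal (ArtFun.Art.dual2 k k)).map (sB xX (up xX (ArtFun.Art.dual2 k k) V).1),
      gmap xX ArtFun.Art.plus V q = gmap xX ArtFun.Art.pr₁ V q + gmap xX ArtFun.Art.pr₂ V q := by
    intro q hq
    refine Submodule.span_induction ?_ ?_ ?_ ?_ hq
    · rintro _ ⟨c, hc, rfl⟩
      rw [gmap_sB, gmap_sB, gmap_sB, plus_apply hc, map_add]
    · rw [map_zero, map_zero, map_zero, add_zero]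
    · intro a b _ _ ha hb
      rw [map_add, map_add, map_add, ha, hb]
      ring
    · intro r a hr ha
      have hmul : ∀ g : ArtFun.Art.dual2 k k ⟶ D k, gmap xX g V (r * a) =
          emb xX (D k) V (red xX _ V r) * gmap xX g V a := fun g => by
        have hgm : gmap xX g V a ∈ (maximalIdeal (D k)).map (sB xX (up xX (D k) V).1) := by
          rw [← ker_red, RingHom.mem_ker, red_gmap]
          exact RingHom.mem_ker.1 ((ker_red xX _ V).ge hr)
        rw [mP_eq] at hgm
        obtain ⟨d, hd⟩ := Ideal.mem_span_singleton'.1 hgm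
        rw [map_mul, ← hd, ← red_gmap xX g V r]
        linear_combination d * E_mul_emb_red xX V (gmap xX g V r)
      rw [smul_eq_mul, hmul, hmul, hmul, ha]
      ring
  have hrep : ∀ g : ArtFun.Art.dual2 k k ⟶ D k, ∃ b,
      gmap xX g V (p - emb xX _ V (val I₀ V.1 m)) = E xX V * emb xX (D k) V b ∧
        (theta ((ArtFun.localHilb X xX I₀).map g z)).app V.1 m = qv I₀ V b := fun g => by
    have h0 : red xX (D k) V (gmap xX g V (p - emb xX _ V (val I₀ V.1 m))) = 0 := by
      rw [red_gmap, map_sub, hpa, red_emb, sub_self]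
    obtain ⟨b, hb⟩ := exists_coeff xX V (gmap xX g V (p - emb xX _ V (val I₀ V.1 m)))
    rw [h0, map_zero, zero_add] at hb
    refine ⟨b, hb, theta_app ?_⟩
    have := hmem g
    unfold Rep
    convert this using 1
    rw [← hb, map_sub, gmap_emb, add_sub_cancel]
  obtain ⟨b₀, hb₀, h₀⟩ := hrep ArtFun.Art.plus
  obtain ⟨b₁, hb₁, h₁⟩ := hrep ArtFun.Art.pr₁
  obtain ⟨b₂, hb₂, h₂⟩ := hrep ArtFun.Art.pr₂
  have h := hadd _ hq
  rw [hb₀, hb₁, hb₂, ← mul_add, ← map_add] at h
  have hb : b₀ = b₁ + b₂ := sub_eq_zero.1 (eq_zero_of_E_mul (x := xX) V (by rw [map_sub, mul_sub, h, sub_self]))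
  show (theta _).app V.1 m = (theta _).app V.1 m + (theta _).app V.1 m
  rw [h₀, h₁, h₂, hb, qv_add]

section Normal

variable [I₀.subscheme.Over (Spec (CommRingCat.of k))]

/-- Adjunction, linearly. -/
theorem exists_adj (hY : I₀.subscheme ↘ Spec (CommRingCat.of k) = I₀.subschemeι ≫ xX) :
    Nonempty ((ClSub.idealMod I₀ ⟶ ClSub.quotMod I₀) ≃ₗ[k]
      ((Scheme.Modules.pullback I₀.subschemeι).obj (ClSub.idealMod I₀) ⟶ Coh.structureModule I₀.subscheme)) := by
  haveI : I₀.subschemeι.IsOver (Spec (CommRingCat.of k)) := ⟨hY.symm⟩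
  let e := ((Scheme.Modules.pullbackPushforwardAdjunction I₀.subschemeι).homEquiv (ClSub.idealMod I₀)
    (Coh.structureModule I₀.subscheme))
  exact ⟨LinearEquiv.symm
    { e with
      map_add' := fun f g => by
        show e (f + g) = e f + e g
        simp only [e, Adjunction.homEquiv_unit, Functor.map_add, Preadditive.comp_add]
      map_smul' := fun c f => by
        show e (c • f) = c • e f
        simp only [e, Adjunction.homEquiv_unit, Functor.map_smul, Linear.comp_smul] }⟩

end Normal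

end HilbGlueLib
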