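import Groth.Agent.HilbGlueLib.Lin
import Groth.Agent.PnDualLib.HomExt
import Groth.Agent.ExtShLib.DivExt
import Groth.Agent.HomCohLib.Adj
import Groth.Prelude.Def_Canon

/-!
# First order invariants as global sections of the normal sheaf
-/

set_option autoImplicit false
set_option linter.style.haveILetI false
set_option linter.unusedSectionVars false
set_option backward.isDefEq.respectTransparency false
set_option backward.isDefEq.respectTransparency.types false
set_option maxHeartbeats 1000000
universe u

open CategoryTheory CategoryTheory.Limits AlgebraicGeometry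
attribute [local instance] HasDerivedCategory.standard

noncomputable section

namespace HilbGlueLib

variable {k : Type u} [Field k] {X Y : Scheme.{u}} [X.Over (Spec (CommRingCat.of k))]
  [Y.Over (Spec (CommRingCat.of k))]

/-- `Hom(I, O/I) ≅ H⁰(N)`. -/
theorem exists_normalEquiv (i : Y ⟶ X) [IsClosedImmersion i]
    (hi : i ≫ (X ↘ Spec (CommRingCat.of k)) = Y ↘ Spec (CommRingCat.of k))
    [DCoh.HasSheafHom (Omega.conormal i)] :
    Nonempty ((ClSub.idealMod i.ker ⟶ ClSub.quotMod i.ker) ≃ₗ[k]
      Coh.HH Y ((DCoh.sheafHom (Omega.conormal i)).obj (Coh.structureModule Y)) 0) := by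
  haveI : i.IsOver (Spec (CommRingCat.of k)) := ⟨hi⟩
  obtain ⟨w⟩ := ExtShLib.nonempty_push_iso_quotMod i
  let ew : (ClSub.idealMod i.ker ⟶ ClSub.quotMod i.ker) ≃ₗ[k]
      (ClSub.idealMod i.ker ⟶ (Scheme.Modules.pushforward i).obj (Coh.structureModule Y)) :=
    Linear.homCongr k (Iso.refl _) w
  let ea := (Scheme.Modules.pullbackPushforwardAdjunction i).homEquiv (ClSub.idealMod i.ker) (Coh.structureModule Y)
  let el : (Omega.conormal i ⟶ Coh.structureModule Y) ≃ₗ[k]
      (ClSub.idealMod i.ker ⟶ (Scheme.Modules.pushforward i).obj (Coh.structureModule Y)) :=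
    { ea with
      map_add' := fun f g => by
        show ea (f + g) = ea f + ea g
        simp only [ea, Adjunction.homEquiv_unit, Functor.map_add, Preadditive.comp_add]
      map_smul' := fun c f => by
        show ea (c • f) = c • ea f
        simp only [ea, Adjunction.homEquiv_unit, Functor.map_smul, Linear.comp_smul] }
  let t := HomCohLib.sheafHomIso (M := Omega.conormal i) (Coh.structureModule Y)
  let et : Coh.HH Y (CohCmpLib.homMod (Omega.conormal i) (Coh.structureModule Y)) 0 ≃ₗ[k]
      Coh.HH Y ((DCoh.sheafHom (Omega.conormal i)).obj (Coh.structureModule Y)) 0 :=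
    LinearEquiv.ofLinear (Canon.HHlin k t.inv 0) (Canon.HHlin k t.hom 0)
      (LinearMap.ext fun z => by
        show Sheaf.H.map _ 0 (Sheaf.H.map _ 0 z) = z
        rw [← Sheaf.H.map_comp_apply, ← Functor.map_comp, t.hom_inv_id, CategoryTheory.Functor.map_id,
          Sheaf.H.map_id_apply])
      (LinearMap.ext fun z => by
        show Sheaf.H.map _ 0 (Sheaf.H.map _ 0 z) = z
        rw [← Sheaf.H.map_comp_apply, ← Functor.map_comp, t.inv_hom_id, CategoryTheory.Functor.map_id,
          Sheaf.H.map_id_apply])
  exact ⟨ew ≪≫ₗ el.symm ≪≫ₗ PnDualLib.homH0 k (Omega.conormal i) (Coh.structureModule Y) ≪≫ₗ et⟩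

end HilbGlueLib
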