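import Groth.Agent.HilbGlueLib.Normal
import Groth.Agent.HomCohLib.Coh
import Groth.Agent.SurfExtLib.CBGeom
import Groth.Agent.ConsLib.ModLoci

/-!
# The normal sheaf is coherent
-/

set_option autoImplicit false
set_option linter.style.haveILetI false
universe u

open CategoryTheory CategoryTheory.Limits AlgebraicGeometry

noncomputable section

namespace HilbGlueLib

theorem isCoh_normal {X : Scheme.{u}} [IsLocallyNoetherian X] (I₀ : X.IdealSheafData)
    [IsLocallyNoetherian I₀.subscheme] [DCoh.HasSheafHom (Omega.conormal I₀.subschemeι)] :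
    Coh.IsCoh ((DCoh.sheafHom (Omega.conormal I₀.subschemeι)).obj (Coh.structureModule I₀.subscheme)) :=
  QCohLib.isCoh_of_iso (HomCohLib.sheafHomIso (M := Omega.conormal I₀.subschemeι) _).symm
    (HomCohLib.isCoh_homMod (ConsLib.isCoh_pullback _ (SurfExtLib.isCoh_idealMod _))
      (DevissLib.isCoh_structureModule _))

end HilbGlueLib
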