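import Groth.Agent.HilbGlueLib.TangentDim
import Groth.Agent.HilbGlueLib.Universal

/-!
# The Zariski tangent space of a Hilbert scheme
-/

set_option autoImplicit false
set_option linter.style.haveILetI false
set_option linter.unusedSectionVars false
set_option backward.isDefEq.respectTransparency false
set_option backward.isDefEq.respectTransparency.types false
set_option maxHeartbeats 1000000
universe u

open CategoryTheory CategoryTheory.Limits AlgebraicGeometry IsLocalRing
attribute [local instance] HasDerivedCategory.standard

noncomputable section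

namespace HilbGlueLib

/-- The cotangent space at `[Y]` has dimension `h⁰(N)`. -/
theorem finrank_cotangent_stalk {k : Type u} [Field k] {X : Scheme.{u}} (f : X ⟶ Spec (CommRingCat.of k)) [IsProper f]
    (H : Over (Spec (CommRingCat.of k))) (Z : FGA.HilbSet f H) (hH : FGA.HilbRepresentedBy f H Z)
    (Y : Scheme.{u}) [Y.Over (Spec (CommRingCat.of k))] (i : Y ⟶ X) [IsClosedImmersion i]
    (hi : i ≫ f = Y ↘ Spec (CommRingCat.of k)) [DCoh.HasSheafHom (Omega.conormal i)]
    (y : Over.mk (𝟙 (Spec (CommRingCat.of k))) ⟶ H)
    (hy : FGA.hilbPull f y Z.1 = i.ker.comap (pullback.fst f (Over.mk (𝟙 (Spec (CommRingCat.of k)))).hom)) :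
    Module.finrank (ResidueField (H.left.presheaf.stalk (y.left.base (IsLocalRing.closedPoint k))))
        (CotangentSpace (H.left.presheaf.stalk (y.left.base (IsLocalRing.closedPoint k)))) =
      Module.finrank k (Coh.HH Y ((DCoh.sheafHom (Omega.conormal i)).obj (Coh.structureModule Y)) 0) := by
  haveI := hH.1
  obtain ⟨alg, res, ξ, hξ⟩ := exists_universal f H Z hH y i.ker hy
  letI := alg
  letI : X.Over (Spec (CommRingCat.of k)) := ⟨f⟩
  obtain ⟨e⟩ := exists_normalEquiv (k := k) (X := X) i hi
  rw [← e.finrank_eq]
  exact finrank_cotangent_of_universal _ res ξ hξ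

end HilbGlueLib
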