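import Groth.Agent.HilbGlueLib.Cmp
import Groth.Agent.HilbGlueLib.Normal

/-!
# The tangent space of the local Hilbert functor
-/

set_option autoImplicit false
set_option linter.style.haveILetI false
set_option linter.unusedSectionVars false
set_option backward.isDefEq.respectTransparency false
set_option backward.isDefEq.respectTransparency.types false
set_option maxHeartbeats 1000000
universe u

open CategoryTheory CategoryTheory.Limits AlgebraicGeometry
attribute [local instance] HasDerivedCategory.standard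

noncomputable section

namespace HilbGlueLib

variable {k : Type u} [Field k] {X : Scheme.{u}} [X.Over (Spec (CommRingCat.of k))] {I₀ : X.IdealSheafData}

theorem exists_pair (a b : (ArtFun.localHilb X (X ↘ Spec (CommRingCat.of k)) I₀).obj (D k)) :
    ∃ z, (ArtFun.localHilb X (X ↘ Spec (CommRingCat.of k)) I₀).map ArtFun.Art.pr₁ z = a ∧
      (ArtFun.localHilb X (X ↘ Spec (CommRingCat.of k)) I₀).map ArtFun.Art.pr₂ z = b := by
  haveI := (h0 (X ↘ Spec (CommRingCat.of k)) (I₀ := I₀)).2
  obtain ⟨z, hz⟩ := (cmp_bijective (X ↘ Spec (CommRingCat.of k)) (I₀ := I₀) ArtFun.Art.isFibreProd_dual2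
    (toBase_surjective _)).2 ⟨(a, b), Subsingleton.elim _ _⟩
  exact ⟨z, congrArg (fun t => t.1.1) hz, congrArg (fun t => t.1.2) hz⟩

/-- The first order invariant, linearly. -/
theorem exists_tangentEquiv [ArtFun.TangentStr (ArtFun.localHilb X (X ↘ Spec (CommRingCat.of k)) I₀)] :
    Nonempty (ArtFun.TangentSpace (ArtFun.localHilb X (X ↘ Spec (CommRingCat.of k)) I₀) ≃ₗ[k]
      (ClSub.idealMod I₀ ⟶ ClSub.quotMod I₀)) := by
  let F := ArtFun.localHilb X (X ↘ Spec (CommRingCat.of k)) I₀
  let L : ArtFun.TangentSpace F →ₗ[k] (ClSub.idealMod I₀ ⟶ ClSub.quotMod I₀) :=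
    { toFun := fun t => theta t
      map_add' := fun a b => by
        obtain ⟨z, ha, hb⟩ := exists_pair a b
        have h := ArtFun.TangentStr.add_eq (F := F) z
        rw [ha, hb] at h
        refine (congrArg theta h).trans ((theta_plus z).trans ?_)
        rw [ha, hb]
      map_smul' := fun c a =>
        (congrArg theta (ArtFun.TangentStr.smul_eq (F := F) c a)).trans (theta_scale a c) }
  exact ⟨LinearEquiv.ofBijective L (theta_bijective (X ↘ Spec (CommRingCat.of k)) (I₀ := I₀))⟩

/-- The normal sheaf of a closed subscheme given by its ideal. -/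
theorem exists_normalEquiv_sub (I₀ : X.IdealSheafData) [I₀.subscheme.Over (Spec (CommRingCat.of k))]
    (hY : I₀.subscheme ↘ Spec (CommRingCat.of k) = I₀.subschemeι ≫ (X ↘ Spec (CommRingCat.of k)))
    [DCoh.HasSheafHom (Omega.conormal I₀.subschemeι)] :
    Nonempty ((ClSub.idealMod I₀ ⟶ ClSub.quotMod I₀) ≃ₗ[k]
      Coh.HH I₀.subscheme ((DCoh.sheafHom (Omega.conormal I₀.subschemeι)).obj (Coh.structureModule I₀.subscheme)) 0) := by
  have key : ∀ (J : X.IdealSheafData), J = I₀.subschemeι.ker →
      Nonempty ((ClSub.idealMod J ⟶ ClSub.quotMod J) ≃ₗ[k]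
        Coh.HH I₀.subscheme ((DCoh.sheafHom (Omega.conormal I₀.subschemeι)).obj
          (Coh.structureModule I₀.subscheme)) 0) := by
    rintro J rfl
    exact exists_normalEquiv I₀.subschemeι hY.symm
  exact key I₀ I₀.ker_subschemeι.symm

end HilbGlueLib
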